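import Cfsg.Agent.Lib.H25.ONOut.Tab3
import Cfsg.Agent.Lib.H6.ONPerm.Tab

set_option autoImplicit false
set_option maxRecDepth 100000

/-! # The table `tb3` agrees with the table of the letter 3 (generated) -/

namespace Cfsg.Agent.Lib.H25.ONOut

open Cfsg.Agent.Lib.H17.CosetCert Cfsg.Agent.Lib.H17.PermActs Cfsg.Agent.Lib.H25.ActSift

/-- the comparison at a point -/
noncomputable def brF3 (i : ℕ) : Bool := Nat.beq (lk17 tb3 i) (Cfsg.Agent.Lib.H6.ONPerm.T 3 i)

set_option maxHeartbeats 0 in
theorem br3_0 : sweep brF3 (0 * 30690) 30690 = true := by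
  decide +kernel

set_option maxHeartbeats 0 in
theorem br3_1 : sweep brF3 (1 * 30690) 30690 = true := by
  decide +kernel

set_option maxHeartbeats 0 in
theorem br3_2 : sweep brF3 (2 * 30690) 30690 = true := by
  decide +kernel

set_option maxHeartbeats 0 in
theorem br3_3 : sweep brF3 (3 * 30690) 30690 = true := by
  decide +kernel

theorem bridge3 : ∀ i < 122760, lk17 tb3 i = Cfsg.Agent.Lib.H6.ONPerm.T 3 i := by
  intro i hi
  have h : ∀ k < 4, sweep brF3 (k * 30690) 30690 = true := by
    intro k hk
    interval_cases k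
    · exact br3_0
    · exact br3_1
    · exact br3_2
    · exact br3_3
  exact Nat.eq_of_beq_eq_true (sweep_all brF3 30690 4 (by norm_num) h i (by omega))

end Cfsg.Agent.Lib.H25.ONOut
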