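import Cfsg.Agent.Lib.H6.ONSimple
import Cfsg.Agent.Lib.H25.ONOut.Bridge0
import Cfsg.Agent.Lib.H25.ONOut.Bridge1
import Cfsg.Agent.Lib.H25.ONOut.Bridge2
import Cfsg.Agent.Lib.H25.ONOut.Bridge3
import Cfsg.Agent.Lib.H25.ONOut.Bridge4
import Cfsg.Agent.Lib.H25.ONOut.Bridge5
import Cfsg.Agent.Lib.H25.ONOut.Bridge6
import Cfsg.Agent.Lib.H25.ONOut.Bridge7

set_option autoImplicit false
set_option maxRecDepth 100000

/-! # The presented O'Nan group acting on 122760 points: letters and their tables -/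

namespace Cfsg.Agent.Lib.H25.ONOut

open Cfsg.Agent.Lib.H17.CosetCert Cfsg.Agent.Lib.H17.Sgs Cfsg.Agent.Lib.H17.PermActs
  Cfsg.Agent.Lib.H6.PermTab Cfsg.Agent.Lib.H6.ONGlue Cfsg.Agent.Lib.H6.ONIndex
  Cfsg.Agent.Lib.H6.ONSimple Cfsg.Agent.Lib.H25.ActSift

/-- the letters: the tables of `g⁻¹`, `g`, `a`, …, `f` -/
def letters : List ℕ := [tb0, tb1, tb2, tb3, tb4, tb5, tb6, tb7]

/-- the elements of the letters -/
noncomputable def elems : List G := [e 1, e 0, e 2, e 3, e 4, e 5, e 6, e 7]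

/-- the action of a letter -/
abbrev A : ℕ → ℕ → ℕ := lk17

/-- the element of a letter -/
noncomputable def el (t : ℕ) : G := elems.getD (letters.idxOf t) 1

theorem acts_letter (x : ℕ) (hx : x < 8) (t : ℕ)
    (hb : ∀ i < 122760, lk17 t i = Cfsg.Agent.Lib.H6.ONPerm.T x i) :
    Acts phi (e (Cfsg.Agent.Lib.H6.ONGlue.iv x)) (A t) := by
  intro p
  have hiv : Cfsg.Agent.Lib.H6.ONGlue.iv x < 8 := by interval_cases x <;> decide
  rw [phi_e _ hiv]
  have h1 : eps (Cfsg.Agent.Lib.H6.ONGlue.iv x) = sg x := by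
    unfold eps
    have h2 := sg_iv x hx
    have e2 : Cfsg.Agent.Lib.H6.ONGlue.iv x = Cfsg.Agent.Lib.H6.ONPerm.iv x := rfl
    rw [e2, h2, inv_inv]
  rw [h1]
  change ((σ Cfsg.Agent.Lib.H6.ONPerm.T Cfsg.Agent.Lib.H6.ONPerm.iv 8 n x p : Fin n) : ℕ) = lk17 t p
  rw [σ_apply _ _ _ _ good x hx p, hb p p.2]

theorem idxOf_letters : letters.idxOf tb0 = 0 ∧ letters.idxOf tb1 = 1 ∧ letters.idxOf tb2 = 2 ∧
    letters.idxOf tb3 = 3 ∧ letters.idxOf tb4 = 4 ∧ letters.idxOf tb5 = 5 ∧ letters.idxOf tb6 = 6 ∧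
    letters.idxOf tb7 = 7 := by decide +kernel

theorem el_tb0 : el tb0 = e 1 := by unfold el; rw [idxOf_letters.1]; rfl
theorem el_tb1 : el tb1 = e 0 := by unfold el; rw [idxOf_letters.2.1]; rfl
theorem el_tb2 : el tb2 = e 2 := by unfold el; rw [idxOf_letters.2.2.1]; rfl
theorem el_tb3 : el tb3 = e 3 := by unfold el; rw [idxOf_letters.2.2.2.1]; rfl
theorem el_tb4 : el tb4 = e 4 := by unfold el; rw [idxOf_letters.2.2.2.2.1]; rfl
theorem el_tb5 : el tb5 = e 5 := by unfold el; rw [idxOf_letters.2.2.2.2.2.1]; rfl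
theorem el_tb6 : el tb6 = e 6 := by unfold el; rw [idxOf_letters.2.2.2.2.2.2.1]; rfl
theorem el_tb7 : el tb7 = e 7 := by unfold el; rw [idxOf_letters.2.2.2.2.2.2.2]; rfl

theorem hA : ∀ t ∈ letters, Acts phi (el t) (A t) := by
  intro t ht
  simp only [letters, List.mem_cons, List.not_mem_nil, or_false] at ht
  rcases ht with rfl | rfl | rfl | rfl | rfl | rfl | rfl | rfl
  · rw [el_tb0]; exact acts_letter 0 (by norm_num) tb0 bridge0
  · rw [el_tb1]; exact acts_letter 1 (by norm_num) tb1 bridge1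
  · rw [el_tb2]; exact acts_letter 2 (by norm_num) tb2 bridge2
  · rw [el_tb3]; exact acts_letter 3 (by norm_num) tb3 bridge3
  · rw [el_tb4]; exact acts_letter 4 (by norm_num) tb4 bridge4
  · rw [el_tb5]; exact acts_letter 5 (by norm_num) tb5 bridge5
  · rw [el_tb6]; exact acts_letter 6 (by norm_num) tb6 bridge6
  · rw [el_tb7]; exact acts_letter 7 (by norm_num) tb7 bridge7

/-- the element of a word and its action -/
theorem acts_word (w : List ℕ) (hw : ∀ x ∈ w, x ∈ letters) :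
    Acts phi (elS el w) (applyW A w) := acts_elS hA w hw

end Cfsg.Agent.Lib.H25.ONOut
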