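import Cfsg.Agent.Lib.H25.ONOut.Defs

set_option autoImplicit false
set_option maxRecDepth 100000

/-! # The number of points of the second level of the chain of `s` (generated) -/

namespace Cfsg.Agent.Lib.H25.ONOut

open Cfsg.Agent.Lib.H17.CosetCert Cfsg.Agent.Lib.H17.PermActs Cfsg.Agent.Lib.H25.ActSift

set_option maxHeartbeats 0 in
theorem cnt_lvS2 : countNZ lvS2.sv 122760 0 = 58653 := by
  decide +kernel

end Cfsg.Agent.Lib.H25.ONOut
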