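import Cfsg.Agent.Lib.H25.ONOut.Defs

set_option autoImplicit false
set_option maxRecDepth 100000

/-! # The points of the third level of the chain of `s` are moved to the base point, part 1 (generated) -/

namespace Cfsg.Agent.Lib.H25.ONOut

open Cfsg.Agent.Lib.H17.CosetCert Cfsg.Agent.Lib.H17.PermActs Cfsg.Agent.Lib.H25.ActSift

set_option maxHeartbeats 0 in
theorem rchS3_1 : sweep (reachF A lvS3) (1 * 61380) 61380 = true := by
  decide +kernel

end Cfsg.Agent.Lib.H25.ONOut
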