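import Cfsg.Agent.Lib.H25.ONOut.RchA0
import Cfsg.Agent.Lib.H25.ONOut.RchA1
import Cfsg.Agent.Lib.H25.ONOut.RchA2
import Cfsg.Agent.Lib.H25.ONOut.RchA3
import Cfsg.Agent.Lib.H25.ONOut.RchA4
import Cfsg.Agent.Lib.H25.ONOut.RchA5
import Cfsg.Agent.Lib.H25.ONOut.RchA6
import Cfsg.Agent.Lib.H25.ONOut.RchA7
import Cfsg.Agent.Lib.H25.ONOut.RchA8
import Cfsg.Agent.Lib.H25.ONOut.RchA9
import Cfsg.Agent.Lib.H25.ONOut.RchA10
import Cfsg.Agent.Lib.H25.ONOut.RchA11
import Cfsg.Agent.Lib.H25.ONOut.RchA12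
import Cfsg.Agent.Lib.H25.ONOut.RchA13
import Cfsg.Agent.Lib.H25.ONOut.RchA14
import Cfsg.Agent.Lib.H25.ONOut.RchA15
import Cfsg.Agent.Lib.H25.ONOut.RchA16
import Cfsg.Agent.Lib.H25.ONOut.RchA17
import Cfsg.Agent.Lib.H25.ONOut.RchA18
import Cfsg.Agent.Lib.H25.ONOut.RchA19
import Cfsg.Agent.Lib.H25.ONOut.RchS20
import Cfsg.Agent.Lib.H25.ONOut.RchS21
import Cfsg.Agent.Lib.H25.ONOut.RchS22
import Cfsg.Agent.Lib.H25.ONOut.RchS23
import Cfsg.Agent.Lib.H25.ONOut.RchS24
import Cfsg.Agent.Lib.H25.ONOut.RchS25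
import Cfsg.Agent.Lib.H25.ONOut.RchS26
import Cfsg.Agent.Lib.H25.ONOut.RchS27
import Cfsg.Agent.Lib.H25.ONOut.RchS28
import Cfsg.Agent.Lib.H25.ONOut.RchS29
import Cfsg.Agent.Lib.H25.ONOut.RchS210
import Cfsg.Agent.Lib.H25.ONOut.RchS211
import Cfsg.Agent.Lib.H25.ONOut.RchS212
import Cfsg.Agent.Lib.H25.ONOut.RchS213
import Cfsg.Agent.Lib.H25.ONOut.RchS214
import Cfsg.Agent.Lib.H25.ONOut.RchS215
import Cfsg.Agent.Lib.H25.ONOut.RchS216
import Cfsg.Agent.Lib.H25.ONOut.RchS217
import Cfsg.Agent.Lib.H25.ONOut.RchS218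
import Cfsg.Agent.Lib.H25.ONOut.RchS219
import Cfsg.Agent.Lib.H25.ONOut.RchE20
import Cfsg.Agent.Lib.H25.ONOut.RchE21
import Cfsg.Agent.Lib.H25.ONOut.RchE22
import Cfsg.Agent.Lib.H25.ONOut.RchE23
import Cfsg.Agent.Lib.H25.ONOut.RchE24
import Cfsg.Agent.Lib.H25.ONOut.RchE25
import Cfsg.Agent.Lib.H25.ONOut.RchE26
import Cfsg.Agent.Lib.H25.ONOut.RchE27
import Cfsg.Agent.Lib.H25.ONOut.RchE28
import Cfsg.Agent.Lib.H25.ONOut.RchE29
import Cfsg.Agent.Lib.H25.ONOut.RchE210
import Cfsg.Agent.Lib.H25.ONOut.RchE211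
import Cfsg.Agent.Lib.H25.ONOut.RchE212
import Cfsg.Agent.Lib.H25.ONOut.RchE213
import Cfsg.Agent.Lib.H25.ONOut.RchE214
import Cfsg.Agent.Lib.H25.ONOut.RchE215
import Cfsg.Agent.Lib.H25.ONOut.RchE216
import Cfsg.Agent.Lib.H25.ONOut.RchE217
import Cfsg.Agent.Lib.H25.ONOut.RchE218
import Cfsg.Agent.Lib.H25.ONOut.RchE219
import Cfsg.Agent.Lib.H25.ONOut.RchS30
import Cfsg.Agent.Lib.H25.ONOut.RchS31
import Cfsg.Agent.Lib.H25.ONOut.RchS40
import Cfsg.Agent.Lib.H25.ONOut.RchS41
import Cfsg.Agent.Lib.H25.ONOut.RchE30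
import Cfsg.Agent.Lib.H25.ONOut.RchE31
import Cfsg.Agent.Lib.H25.ONOut.CntA
import Cfsg.Agent.Lib.H25.ONOut.CntS2
import Cfsg.Agent.Lib.H25.ONOut.CntS3
import Cfsg.Agent.Lib.H25.ONOut.CntS4
import Cfsg.Agent.Lib.H25.ONOut.CntE2
import Cfsg.Agent.Lib.H25.ONOut.CntE3

set_option autoImplicit false
set_option maxRecDepth 100000

/-! # The two chains of stabilisers are correct (generated) -/

namespace Cfsg.Agent.Lib.H25.ONOut

open Cfsg.Agent.Lib.H17.CosetCert Cfsg.Agent.Lib.H17.Sgs Cfsg.Agent.Lib.H17.PermActs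
  Cfsg.Agent.Lib.H6.PermTab Cfsg.Agent.Lib.H6.ONGlue Cfsg.Agent.Lib.H6.ONIndex
  Cfsg.Agent.Lib.H6.ONSimple Cfsg.Agent.Lib.H25.ActSift

theorem rchA_all : ∀ p < 122760, reachF A lvA p = true := by
  have h : ∀ k < 20, sweep (reachF A lvA) (k * 6138) 6138 = true := by
    intro k hk
    interval_cases k
    · exact rchA_0
    · exact rchA_1
    · exact rchA_2
    · exact rchA_3
    · exact rchA_4
    · exact rchA_5
    · exact rchA_6
    · exact rchA_7
    · exact rchA_8
    · exact rchA_9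
    · exact rchA_10
    · exact rchA_11
    · exact rchA_12
    · exact rchA_13
    · exact rchA_14
    · exact rchA_15
    · exact rchA_16
    · exact rchA_17
    · exact rchA_18
    · exact rchA_19
  intro p hp
  exact sweep_all (reachF A lvA) 6138 20 (by norm_num) h p (by omega)

theorem rchS2_all : ∀ p < 122760, reachF A lvS2 p = true := by
  have h : ∀ k < 20, sweep (reachF A lvS2) (k * 6138) 6138 = true := by
    intro k hk
    interval_cases k
    · exact rchS2_0
    · exact rchS2_1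
    · exact rchS2_2
    · exact rchS2_3
    · exact rchS2_4
    · exact rchS2_5
    · exact rchS2_6
    · exact rchS2_7
    · exact rchS2_8
    · exact rchS2_9
    · exact rchS2_10
    · exact rchS2_11
    · exact rchS2_12
    · exact rchS2_13
    · exact rchS2_14
    · exact rchS2_15
    · exact rchS2_16
    · exact rchS2_17
    · exact rchS2_18
    · exact rchS2_19
  intro p hp
  exact sweep_all (reachF A lvS2) 6138 20 (by norm_num) h p (by omega)

theorem rchE2_all : ∀ p < 122760, reachF A lvE2 p = true := by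
  have h : ∀ k < 20, sweep (reachF A lvE2) (k * 6138) 6138 = true := by
    intro k hk
    interval_cases k
    · exact rchE2_0
    · exact rchE2_1
    · exact rchE2_2
    · exact rchE2_3
    · exact rchE2_4
    · exact rchE2_5
    · exact rchE2_6
    · exact rchE2_7
    · exact rchE2_8
    · exact rchE2_9
    · exact rchE2_10
    · exact rchE2_11
    · exact rchE2_12
    · exact rchE2_13
    · exact rchE2_14
    · exact rchE2_15
    · exact rchE2_16
    · exact rchE2_17
    · exact rchE2_18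
    · exact rchE2_19
  intro p hp
  exact sweep_all (reachF A lvE2) 6138 20 (by norm_num) h p (by omega)

theorem rchS3_all : ∀ p < 122760, reachF A lvS3 p = true := by
  have h : ∀ k < 2, sweep (reachF A lvS3) (k * 61380) 61380 = true := by
    intro k hk
    interval_cases k
    · exact rchS3_0
    · exact rchS3_1
  intro p hp
  exact sweep_all (reachF A lvS3) 61380 2 (by norm_num) h p (by omega)

theorem rchS4_all : ∀ p < 122760, reachF A lvS4 p = true := by
  have h : ∀ k < 2, sweep (reachF A lvS4) (k * 61380) 61380 = true := by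
    intro k hk
    interval_cases k
    · exact rchS4_0
    · exact rchS4_1
  intro p hp
  exact sweep_all (reachF A lvS4) 61380 2 (by norm_num) h p (by omega)

theorem rchE3_all : ∀ p < 122760, reachF A lvE3 p = true := by
  have h : ∀ k < 2, sweep (reachF A lvE3) (k * 61380) 61380 = true := by
    intro k hk
    interval_cases k
    · exact rchE3_0
    · exact rchE3_1
  intro p hp
  exact sweep_all (reachF A lvE3) 61380 2 (by norm_num) h p (by omega)

theorem chkA : LvlChk A letters 122760 [] lvA 122760 :=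
  ⟨by decide +kernel, by decide +kernel, by decide +kernel, rchA_all, cnt_lvA⟩

theorem chkS2 : LvlChk A letters 122760 [0] lvS2 58653 :=
  ⟨by decide +kernel, by decide +kernel, by decide +kernel, rchS2_all, cnt_lvS2⟩

theorem chkS3 : LvlChk A letters 122760 [1, 0] lvS3 32 :=
  ⟨by decide +kernel, by decide +kernel, by decide +kernel, rchS3_all, cnt_lvS3⟩

theorem chkS4 : LvlChk A letters 122760 [255, 1, 0] lvS4 2 :=
  ⟨by decide +kernel, by decide +kernel, by decide +kernel, rchS4_all, cnt_lvS4⟩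

theorem chkE2 : LvlChk A letters 122760 [0] lvE2 52136 :=
  ⟨by decide +kernel, by decide +kernel, by decide +kernel, rchE2_all, cnt_lvE2⟩

theorem chkE3 : LvlChk A letters 122760 [47519, 0] lvE3 72 :=
  ⟨by decide +kernel, by decide +kernel, by decide +kernel, rchE3_all, cnt_lvE3⟩

theorem chkChainS : ChkChain A letters 122760 [] chainS msS := by
  show ChkChain A letters 122760 [] [lvA, lvS2, lvS3, lvS4] [122760, 58653, 32, 2]
  exact ⟨chkA, chkS2, chkS3, chkS4, trivial⟩

theorem chkChainE : ChkChain A letters 122760 [] chainE msE := by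
  show ChkChain A letters 122760 [] [lvA, lvE2, lvE3] [122760, 52136, 72]
  exact ⟨chkA, chkE2, chkE3, trivial⟩

theorem chainS_top : ChainOK phi A letters [] chainS ∧ IsBase phi (chainS.map ALvl.b) :=
  chain_top hA chainS msS chkChainS (by rw [G_card]; decide)

theorem chainE_top : ChainOK phi A letters [] chainE ∧ IsBase phi (chainE.map ALvl.b) :=
  chain_top hA chainE msE chkChainE (by rw [G_card]; decide)

/-- the base of the chain of `s` -/
def bsS : List ℕ := [0, 1, 255, 2693]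

/-- the base of the chain of `e` -/
def bsE : List ℕ := [0, 47519, 43374]

theorem bsS_base : IsBase phi bsS := chainS_top.2

theorem bsE_base : IsBase phi bsE := chainE_top.2

theorem bsS_lt : ∀ c ∈ bsS, c < 122760 := by decide

theorem bsE_lt : ∀ c ∈ bsE, c < 122760 := by decide

end Cfsg.Agent.Lib.H25.ONOut
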