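import Cfsg.Agent.Lib.H25.ONOut.MainDefs

set_option autoImplicit false
set_option maxRecDepth 100000

/-! # The candidate images of `t` for the exponent 1, part 2 (generated) -/

namespace Cfsg.Agent.Lib.H25.ONOut

open Cfsg.Agent.Lib.H17.CosetCert Cfsg.Agent.Lib.H17.PermActs Cfsg.Agent.Lib.H25.ActSift
  Cfsg.Agent.Lib.H17.OutTools

set_option maxHeartbeats 0 in
theorem chkP1_2 : chkAll (chkPair 1 [1]) (CWp 2) (WT1p 2) = true := by
  decide +kernel

end Cfsg.Agent.Lib.H25.ONOut
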