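import Cfsg.Agent.Lib.H25.ActTab

set_option autoImplicit false

/-! # the orbit function of the fourth level of the chain of `s` (generated) -/

namespace Cfsg.Agent.Lib.H25.ONOut

open Cfsg.Agent.Lib.H25.ActSift

/-- block 0 of `svS4` -/
def svS4_0 : ℕ := 0x0

/-- block 1 of `svS4` -/
def svS4_1 : ℕ := 0x0

/-- block 2 of `svS4` -/
def svS4_2 : ℕ := 0x1000000000000000000000000000000000000000000000000000000000000000000000000000000000000000000000000000000000000000000000000000000000000000000000000000000000000000000000000000000000000000000000000000000000000000000000000000000000000000000000000000000000000000000000000000000000000000000000000000000000000000000000000000000000000000000000000000020000000000000000000000000000000000000000000000000000000000000000000000000000000000000000000000000000000000000000000000000000000000000000000000000000000000000000000000000000000000000000000000000000000000000000000000000000000000000000000000000000000000000000000000000000000000000000000000000000000000000000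

/-- block 3 of `svS4` -/
def svS4_3 : ℕ := 0x0

/-- block 4 of `svS4` -/
def svS4_4 : ℕ := 0x0

/-- block 5 of `svS4` -/
def svS4_5 : ℕ := 0x0

/-- block 6 of `svS4` -/
def svS4_6 : ℕ := 0x0

/-- block 7 of `svS4` -/
def svS4_7 : ℕ := 0x0

/-- block 8 of `svS4` -/
def svS4_8 : ℕ := 0x0

/-- block 9 of `svS4` -/
def svS4_9 : ℕ := 0x0

/-- block 10 of `svS4` -/
def svS4_10 : ℕ := 0x0

/-- block 11 of `svS4` -/
def svS4_11 : ℕ := 0x0

/-- block 12 of `svS4` -/
def svS4_12 : ℕ := 0x0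

/-- block 13 of `svS4` -/
def svS4_13 : ℕ := 0x0

/-- block 14 of `svS4` -/
def svS4_14 : ℕ := 0x0

/-- block 15 of `svS4` -/
def svS4_15 : ℕ := 0x0

/-- block 16 of `svS4` -/
def svS4_16 : ℕ := 0x0

/-- block 17 of `svS4` -/
def svS4_17 : ℕ := 0x0

/-- block 18 of `svS4` -/
def svS4_18 : ℕ := 0x0

/-- block 19 of `svS4` -/
def svS4_19 : ℕ := 0x0

/-- block 20 of `svS4` -/
def svS4_20 : ℕ := 0x0

/-- block 21 of `svS4` -/
def svS4_21 : ℕ := 0x0

/-- block 22 of `svS4` -/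
def svS4_22 : ℕ := 0x0

/-- block 23 of `svS4` -/
def svS4_23 : ℕ := 0x0

/-- block 24 of `svS4` -/
def svS4_24 : ℕ := 0x0

/-- block 25 of `svS4` -/
def svS4_25 : ℕ := 0x0

/-- block 26 of `svS4` -/
def svS4_26 : ℕ := 0x0

/-- block 27 of `svS4` -/
def svS4_27 : ℕ := 0x0

/-- block 28 of `svS4` -/
def svS4_28 : ℕ := 0x0

/-- block 29 of `svS4` -/
def svS4_29 : ℕ := 0x0

/-- block 30 of `svS4` -/
def svS4_30 : ℕ := 0x0

/-- block 31 of `svS4` -/
def svS4_31 : ℕ := 0x0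

/-- block 32 of `svS4` -/
def svS4_32 : ℕ := 0x0

/-- block 33 of `svS4` -/
def svS4_33 : ℕ := 0x0

/-- block 34 of `svS4` -/
def svS4_34 : ℕ := 0x0

/-- block 35 of `svS4` -/
def svS4_35 : ℕ := 0x0

/-- block 36 of `svS4` -/
def svS4_36 : ℕ := 0x0

/-- block 37 of `svS4` -/
def svS4_37 : ℕ := 0x0

/-- block 38 of `svS4` -/
def svS4_38 : ℕ := 0x0

/-- block 39 of `svS4` -/
def svS4_39 : ℕ := 0x0

/-- block 40 of `svS4` -/
def svS4_40 : ℕ := 0x0

/-- block 41 of `svS4` -/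
def svS4_41 : ℕ := 0x0

/-- block 42 of `svS4` -/
def svS4_42 : ℕ := 0x0

/-- block 43 of `svS4` -/
def svS4_43 : ℕ := 0x0

/-- block 44 of `svS4` -/
def svS4_44 : ℕ := 0x0

/-- block 45 of `svS4` -/
def svS4_45 : ℕ := 0x0

/-- block 46 of `svS4` -/
def svS4_46 : ℕ := 0x0

/-- block 47 of `svS4` -/
def svS4_47 : ℕ := 0x0

/-- block 48 of `svS4` -/
def svS4_48 : ℕ := 0x0

/-- block 49 of `svS4` -/
def svS4_49 : ℕ := 0x0

/-- block 50 of `svS4` -/
def svS4_50 : ℕ := 0x0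

/-- block 51 of `svS4` -/
def svS4_51 : ℕ := 0x0

/-- block 52 of `svS4` -/
def svS4_52 : ℕ := 0x0

/-- block 53 of `svS4` -/
def svS4_53 : ℕ := 0x0

/-- block 54 of `svS4` -/
def svS4_54 : ℕ := 0x0

/-- block 55 of `svS4` -/
def svS4_55 : ℕ := 0x0

/-- block 56 of `svS4` -/
def svS4_56 : ℕ := 0x0

/-- block 57 of `svS4` -/
def svS4_57 : ℕ := 0x0

/-- block 58 of `svS4` -/
def svS4_58 : ℕ := 0x0

/-- block 59 of `svS4` -/
def svS4_59 : ℕ := 0x0

/-- block 60 of `svS4` -/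
def svS4_60 : ℕ := 0x0

/-- block 61 of `svS4` -/
def svS4_61 : ℕ := 0x0

/-- block 62 of `svS4` -/
def svS4_62 : ℕ := 0x0

/-- block 63 of `svS4` -/
def svS4_63 : ℕ := 0x0

/-- block 64 of `svS4` -/
def svS4_64 : ℕ := 0x0

/-- block 65 of `svS4` -/
def svS4_65 : ℕ := 0x0

/-- block 66 of `svS4` -/
def svS4_66 : ℕ := 0x0

/-- block 67 of `svS4` -/
def svS4_67 : ℕ := 0x0

/-- block 68 of `svS4` -/
def svS4_68 : ℕ := 0x0

/-- block 69 of `svS4` -/
def svS4_69 : ℕ := 0x0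

/-- block 70 of `svS4` -/
def svS4_70 : ℕ := 0x0

/-- block 71 of `svS4` -/
def svS4_71 : ℕ := 0x0

/-- block 72 of `svS4` -/
def svS4_72 : ℕ := 0x0

/-- block 73 of `svS4` -/
def svS4_73 : ℕ := 0x0

/-- block 74 of `svS4` -/
def svS4_74 : ℕ := 0x0

/-- block 75 of `svS4` -/
def svS4_75 : ℕ := 0x0

/-- block 76 of `svS4` -/
def svS4_76 : ℕ := 0x0

/-- block 77 of `svS4` -/
def svS4_77 : ℕ := 0x0

/-- block 78 of `svS4` -/
def svS4_78 : ℕ := 0x0

/-- block 79 of `svS4` -/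
def svS4_79 : ℕ := 0x0

/-- block 80 of `svS4` -/
def svS4_80 : ℕ := 0x0

/-- block 81 of `svS4` -/
def svS4_81 : ℕ := 0x0

/-- block 82 of `svS4` -/
def svS4_82 : ℕ := 0x0

/-- block 83 of `svS4` -/
def svS4_83 : ℕ := 0x0

/-- block 84 of `svS4` -/
def svS4_84 : ℕ := 0x0

/-- block 85 of `svS4` -/
def svS4_85 : ℕ := 0x0

/-- block 86 of `svS4` -/
def svS4_86 : ℕ := 0x0

/-- block 87 of `svS4` -/
def svS4_87 : ℕ := 0x0

/-- block 88 of `svS4` -/
def svS4_88 : ℕ := 0x0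

/-- block 89 of `svS4` -/
def svS4_89 : ℕ := 0x0

/-- block 90 of `svS4` -/
def svS4_90 : ℕ := 0x0

/-- block 91 of `svS4` -/
def svS4_91 : ℕ := 0x0

/-- block 92 of `svS4` -/
def svS4_92 : ℕ := 0x0

/-- block 93 of `svS4` -/
def svS4_93 : ℕ := 0x0

/-- block 94 of `svS4` -/
def svS4_94 : ℕ := 0x0

/-- block 95 of `svS4` -/
def svS4_95 : ℕ := 0x0

/-- block 96 of `svS4` -/
def svS4_96 : ℕ := 0x0

/-- block 97 of `svS4` -/
def svS4_97 : ℕ := 0x0

/-- block 98 of `svS4` -/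
def svS4_98 : ℕ := 0x0

/-- block 99 of `svS4` -/
def svS4_99 : ℕ := 0x0

/-- block 100 of `svS4` -/
def svS4_100 : ℕ := 0x0

/-- block 101 of `svS4` -/
def svS4_101 : ℕ := 0x0

/-- block 102 of `svS4` -/
def svS4_102 : ℕ := 0x0

/-- block 103 of `svS4` -/
def svS4_103 : ℕ := 0x0

/-- block 104 of `svS4` -/
def svS4_104 : ℕ := 0x0

/-- block 105 of `svS4` -/
def svS4_105 : ℕ := 0x0

/-- block 106 of `svS4` -/
def svS4_106 : ℕ := 0x0

/-- block 107 of `svS4` -/
def svS4_107 : ℕ := 0x0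

/-- block 108 of `svS4` -/
def svS4_108 : ℕ := 0x0

/-- block 109 of `svS4` -/
def svS4_109 : ℕ := 0x0

/-- block 110 of `svS4` -/
def svS4_110 : ℕ := 0x0

/-- block 111 of `svS4` -/
def svS4_111 : ℕ := 0x0

/-- block 112 of `svS4` -/
def svS4_112 : ℕ := 0x0

/-- block 113 of `svS4` -/
def svS4_113 : ℕ := 0x0

/-- block 114 of `svS4` -/
def svS4_114 : ℕ := 0x0

/-- block 115 of `svS4` -/
def svS4_115 : ℕ := 0x0

/-- block 116 of `svS4` -/
def svS4_116 : ℕ := 0x0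

/-- block 117 of `svS4` -/
def svS4_117 : ℕ := 0x0

/-- block 118 of `svS4` -/
def svS4_118 : ℕ := 0x0

/-- block 119 of `svS4` -/
def svS4_119 : ℕ := 0x0

/-- the orbit function of the fourth level of the chain of `s` -/
def svS4 : ℕ := asm 4096
  [svS4_0, svS4_1, svS4_2, svS4_3, svS4_4, svS4_5, svS4_6, svS4_7, svS4_8, svS4_9, svS4_10, svS4_11, svS4_12, svS4_13, svS4_14, svS4_15, svS4_16, svS4_17, svS4_18, svS4_19, svS4_20, svS4_21, svS4_22, svS4_23, svS4_24, svS4_25, svS4_26, svS4_27, svS4_28, svS4_29, svS4_30, svS4_31, svS4_32, svS4_33, svS4_34, svS4_35, svS4_36, svS4_37, svS4_38, svS4_39, svS4_40, svS4_41, svS4_42, svS4_43, svS4_44, svS4_45, svS4_46, svS4_47, svS4_48, svS4_49, svS4_50, svS4_51, svS4_52, svS4_53, svS4_54, svS4_55, svS4_56, svS4_57, svS4_58, svS4_59, svS4_60, svS4_61, svS4_62, svS4_63, svS4_64, svS4_65, svS4_66, svS4_67, svS4_68, svS4_69, svS4_70, svS4_71, svS4_72, svS4_73, svS4_74, svS4_75, svS4_76, svS4_77,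 svS4_78, svS4_79, svS4_80, svS4_81, svS4_82, svS4_83, svS4_84, svS4_85, svS4_86, svS4_87, svS4_88, svS4_89, svS4_90, svS4_91, svS4_92, svS4_93, svS4_94, svS4_95, svS4_96, svS4_97, svS4_98, svS4_99, svS4_100, svS4_101, svS4_102, svS4_103, svS4_104, svS4_105, svS4_106, svS4_107, svS4_108, svS4_109, svS4_110, svS4_111, svS4_112, svS4_113, svS4_114, svS4_115, svS4_116, svS4_117, svS4_118, svS4_119]

end Cfsg.Agent.Lib.H25.ONOut
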