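import Cfsg.Agent.Lib.H25.ONOut.Base
import Cfsg.Agent.Lib.H25.ONOut.SvA
import Cfsg.Agent.Lib.H25.ONOut.SvS2
import Cfsg.Agent.Lib.H25.ONOut.SvS3
import Cfsg.Agent.Lib.H25.ONOut.SvS4
import Cfsg.Agent.Lib.H25.ONOut.SvE2
import Cfsg.Agent.Lib.H25.ONOut.SvE3

set_option autoImplicit false
set_option maxRecDepth 100000

/-! # Elements, chains of stabilisers and the checks over the points (generated) -/

namespace Cfsg.Agent.Lib.H25.ONOut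

open Cfsg.Agent.Lib.H17.CosetCert Cfsg.Agent.Lib.H17.Sgs Cfsg.Agent.Lib.H17.PermActs
  Cfsg.Agent.Lib.H6.PermTab Cfsg.Agent.Lib.H6.ONGlue Cfsg.Agent.Lib.H6.ONIndex
  Cfsg.Agent.Lib.H6.ONSimple Cfsg.Agent.Lib.H25.ActSift

/-- the word of `s`, of order 31 -/
def wS : List ℕ :=
  [tb5, tb6, tb4, tb3, tb1]

/-- the word of `d`, of order 15 -/
def wD : List ℕ :=
  [tb6, tb1, tb3, tb4, tb5, tb6, tb5, tb4, tb5, tb4, tb3, tb1, tb6, tb5, tb3, tb4, tb5, tb6, tb4,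
    tb1]

/-- the word of `t`, of order 20 -/
def wT : List ℕ :=
  [tb5, tb3, tb4, tb1, tb5, tb6, tb3, tb4, tb0, tb5, tb3, tb4, tb5, tb6, tb1, tb5, tb4, tb3, tb1,
    tb5, tb4, tb5, tb3]

/-- the word of the inverse of `s` -/
def wSi : List ℕ :=
  [tb0, tb3, tb4, tb6, tb5]

/-- the word of the inverse of `d` -/
def wDi : List ℕ :=
  [tb0, tb4, tb6, tb5, tb4, tb3, tb5, tb6, tb0, tb3, tb4, tb5, tb4, tb5, tb6, tb5, tb4, tb3, tb0,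
    tb6]

/-- the word of the inverse of `t` -/
def wTi : List ℕ :=
  [tb3, tb5, tb4, tb5, tb0, tb3, tb4, tb5, tb0, tb6, tb5, tb4, tb3, tb5, tb1, tb4, tb3, tb6, tb5,
    tb0, tb4, tb3, tb5]

/-- the word of the third power of `s` -/
def wS3 : List ℕ :=
  [tb5, tb6, tb4, tb3, tb1, tb5, tb6, tb4, tb3, tb1, tb5, tb6, tb4, tb3, tb1]

/-- the word of `e`, the third power of `d` -/
def wE : List ℕ :=
  [tb6, tb1, tb3, tb4, tb5, tb6, tb5, tb4, tb5, tb4, tb3, tb1, tb6, tb5, tb3, tb4, tb5, tb6, tb4,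
    tb1, tb6, tb1, tb3, tb4, tb5, tb6, tb5, tb4, tb5, tb4, tb3, tb1, tb6, tb5, tb3, tb4, tb5, tb6,
    tb4, tb1, tb6, tb1, tb3, tb4, tb5, tb6, tb5, tb4, tb5, tb4, tb3, tb1, tb6, tb5, tb3, tb4, tb5,
    tb6, tb4, tb1]

/-- the action of `s` -/
noncomputable abbrev aS : ℕ → ℕ := applyW A wS

/-- the action of `d` -/
noncomputable abbrev aD : ℕ → ℕ := applyW A wD

/-- the action of `t` -/
noncomputable abbrev aT : ℕ → ℕ := applyW A wT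

/-- the action of the third power of `s` -/
noncomputable abbrev aS3 : ℕ → ℕ := applyW A wS3

/-- the action of `e` -/
noncomputable abbrev aE : ℕ → ℕ := applyW A wE

/-- the first level of both chains -/
noncomputable def lvA : ALvl :=
  ⟨0, 19, lk4 svA,
    [[tb6], [tb5], [tb4], [tb0], [tb1], [tb3], [tb7], [tb2]]⟩

/-- the second level of the chain of `s` -/
noncomputable def lvS2 : ALvl :=
  ⟨1, 30, lk4 svS2,
    [[tb6], [tb5], [tb7], [tb4], [tb3], [tb2]]⟩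

/-- the third level of the chain of `s` -/
noncomputable def lvS3 : ALvl :=
  ⟨255, 5, lk4 svS3,
    [[tb3, tb4, tb5, tb4, tb5, tb3, tb4, tb5, tb6, tb5, tb4, tb5, tb2, tb3, tb4, tb5, tb6, tb5, tb4,
      tb5, tb2, tb3, tb4, tb5, tb4, tb3], [tb7], [tb5, tb4, tb5, tb4], [tb4, tb5, tb4, tb5],
      [tb2]]⟩

/-- the fourth level of the chain of `s` -/
noncomputable def lvS4 : ALvl :=
  ⟨2693, 2, lk4 svS4,
    [[tb2, tb3, tb4, tb5, tb6, tb4, tb5, tb3, tb4, tb5, tb2, tb3, tb4, tb5, tb6, tb7, tb4, tb5, tb6,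
      tb4, tb5, tb3, tb4, tb5, tb6, tb4, tb5, tb4, tb5, tb3, tb4, tb5, tb6, tb7, tb2, tb3, tb4,
      tb5, tb6, tb4, tb5, tb3, tb4, tb5, tb3, tb4, tb2, tb3, tb2]]⟩

/-- the second level of the chain of `e` -/
noncomputable def lvE2 : ALvl :=
  ⟨47519, 28, lk4 svE2,
    [[tb6], [tb5], [tb7], [tb4], [tb3], [tb2]]⟩

/-- the third level of the chain of `e` -/
noncomputable def lvE3 : ALvl :=
  ⟨43374, 5, lk4 svE3,
    [[tb7, tb5, tb6, tb3, tb4, tb5, tb4, tb5, tb6, tb3, tb4, tb5, tb2, tb3, tb4, tb5, tb3], [tb3, tb5,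
      tb4, tb3, tb2, tb5, tb4, tb3, tb6, tb5, tb4, tb5, tb4, tb3, tb6, tb5, tb7], [tb3, tb4, tb5,
      tb3, tb4, tb5, tb6, tb5, tb2, tb3, tb4, tb5, tb2, tb3, tb4, tb3], [tb2, tb4, tb5, tb6, tb7,
      tb6, tb5, tb4, tb5], [tb5, tb4, tb5, tb6, tb7, tb6, tb5, tb4, tb2]]⟩

/-- the chain of `s` -/
noncomputable def chainS : List ALvl := [lvA, lvS2, lvS3, lvS4]

/-- the chain of `e` -/
noncomputable def chainE : List ALvl := [lvA, lvE2, lvE3]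

/-- the numbers of points of the orbits of the chain of `s` -/
def msS : List ℕ := [122760, 58653, 32, 2]

/-- the numbers of points of the orbits of the chain of `e` -/
def msE : List ℕ := [122760, 52136, 72]

/-- the orbit of the point 0 under `s` -/
def orbS : List ℕ :=
  [0, 1, 255, 2693, 2644, 30438, 60444, 38294, 52323, 57072, 99830, 82123, 49786, 73281, 100790,
    67788, 84279, 116175, 83506, 101628, 65893, 98766, 51138, 67056, 87382, 97137, 35901, 95266,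
    16423, 5075, 86]

/-- words in `d`, `t` for the elements of the centraliser of `e` -/
def CW : List (List ℕ) :=
  [[], [0], [1], [0, 0], [1, 0], [0, 1], [1, 1], [0, 0, 0], [1, 0, 0], [0, 1, 0], [1, 1, 0], [0, 0,
    1], [1, 0, 1], [0, 1, 1], [1, 1, 1], [0, 0, 0, 0], [1, 0, 0, 0], [0, 1, 0, 0], [1, 1, 0, 0],
    [0, 0, 1, 0], [1, 0, 1, 0], [0, 1, 1, 0], [1, 1, 1, 0], [1, 0, 0, 1], [0, 1, 0, 1], [1, 1, 0,
    1], [0, 0, 1, 1], [1, 0, 1, 1], [0, 1, 1, 1], [1, 1, 1, 1], [0, 0, 0, 0, 0], [1, 0, 0, 0, 0],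
    [0, 1, 0, 0, 0], [1, 1, 0, 0, 0], [0, 0, 1, 0, 0], [1, 0, 1, 0, 0], [0, 1, 1, 0, 0], [1, 1, 1,
    0, 0], [1, 0, 0, 1, 0], [0, 1, 0, 1, 0], [1, 1, 0, 1, 0], [0, 0, 1, 1, 0], [1, 0, 1, 1, 0], [0,
    1, 1, 1, 0], [1, 1, 1, 1, 0], [0, 1, 0, 0, 1], [1, 1, 0, 0, 1], [0, 0, 1, 0, 1], [1, 0, 1, 0,
    1], [1, 1, 1, 0, 1], [1, 0, 0, 1, 1], [0, 1, 0, 1, 1], [0, 0, 1, 1, 1], [1, 0, 1, 1, 1], [1, 1,
    1, 1, 1], [0, 0, 0, 0, 0, 0], [1, 0, 0, 0, 0, 0], [0, 1, 0, 0, 0, 0], [1, 1, 0, 0, 0, 0], [0,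
    0, 1, 0, 0, 0], [1, 0, 1, 0, 0, 0], [0, 1, 1, 0, 0, 0], [1, 1, 1, 0, 0, 0], [1, 0, 0, 1, 0, 0],
    [0, 1, 0, 1, 0, 0], [1, 1, 0, 1, 0, 0], [0, 0, 1, 1, 0, 0], [1, 0, 1, 1, 0, 0], [0, 1, 1, 1, 0,
    0], [1, 1, 1, 1, 0, 0], [0, 1, 0, 0, 1, 0], [1, 1, 0, 0, 1, 0], [0, 0, 1, 0, 1, 0], [1, 0, 1,
    0, 1, 0], [1, 1, 1, 0, 1, 0], [1, 0, 0, 1, 1, 0], [0, 1, 0, 1, 1, 0], [0, 0, 1, 1, 1, 0], [1,
    0, 1, 1, 1, 0], [1, 1, 1, 1, 1, 0], [0, 0, 1, 0, 0, 1], [1, 1, 1, 0, 0, 1], [1, 1, 0, 1, 0, 1],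
    [1, 1, 1, 1, 0, 1], [1, 0, 1, 0, 1, 1], [1, 0, 0, 1, 1, 1], [0, 0, 0, 0, 0, 0, 0], [1, 0, 0, 0,
    0, 0, 0], [0, 1, 0, 0, 0, 0, 0], [1, 1, 0, 0, 0, 0, 0], [0, 0, 1, 0, 0, 0, 0], [1, 0, 1, 0, 0,
    0, 0], [1, 1, 1, 0, 0, 0, 0], [1, 0, 0, 1, 0, 0, 0], [0, 1, 0, 1, 0, 0, 0], [1, 1, 0, 1, 0, 0,
    0], [0, 0, 1, 1, 0, 0, 0], [1, 0, 1, 1, 0, 0, 0], [0, 1, 1, 1, 0, 0, 0], [1, 1, 1, 1, 0, 0, 0],
    [0, 1, 0, 0, 1, 0, 0], [1, 1, 0, 0, 1, 0, 0], [0, 0, 1, 0, 1, 0, 0], [1, 0, 1, 0, 1, 0, 0], [1,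
    1, 1, 0, 1, 0, 0], [1, 0, 0, 1, 1, 0, 0], [0, 1, 0, 1, 1, 0, 0], [0, 0, 1, 1, 1, 0, 0], [1, 0,
    1, 1, 1, 0, 0], [1, 1, 1, 1, 1, 0, 0], [0, 0, 1, 0, 0, 1, 0], [1, 1, 1, 0, 0, 1, 0], [1, 1, 0,
    1, 0, 1, 0], [1, 1, 1, 1, 0, 1, 0], [1, 0, 1, 0, 1, 1, 0], [1, 0, 0, 1, 1, 1, 0], [1, 1, 1, 1,
    0, 0, 1], [1, 1, 0, 1, 0, 1, 1], [0, 0, 0, 0, 0, 0, 0, 0], [1, 0, 0, 0, 0, 0, 0, 0], [0, 1, 0,
    0, 0, 0, 0, 0], [1, 1, 0, 0, 0, 0, 0, 0], [0, 0, 1, 0, 0, 0, 0, 0], [1, 0, 1, 0, 0, 0, 0, 0],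
    [1, 1, 1, 0, 0, 0, 0, 0], [1, 0, 0, 1, 0, 0, 0, 0], [1, 1, 0, 1, 0, 0, 0, 0], [0, 1, 1, 1, 0,
    0, 0, 0], [1, 1, 1, 1, 0, 0, 0, 0], [0, 1, 0, 0, 1, 0, 0, 0], [1, 1, 0, 0, 1, 0, 0, 0], [0, 0,
    1, 0, 1, 0, 0, 0], [1, 0, 1, 0, 1, 0, 0, 0], [1, 1, 1, 0, 1, 0, 0, 0], [1, 0, 0, 1, 1, 0, 0,
    0], [0, 1, 0, 1, 1, 0, 0, 0], [0, 0, 1, 1, 1, 0, 0, 0], [1, 0, 1, 1, 1, 0, 0, 0], [1, 1, 1, 1,
    1, 0, 0, 0], [0, 0, 1, 0, 0, 1, 0, 0], [1, 1, 1, 0, 0, 1, 0, 0], [1, 1, 0, 1, 0, 1, 0, 0], [1,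
    1, 1, 1, 0, 1, 0, 0], [1, 0, 1, 0, 1, 1, 0, 0], [1, 0, 0, 1, 1, 1, 0, 0], [1, 1, 1, 1, 0, 0, 1,
    0], [1, 0, 0, 0, 0, 0, 0, 0, 0], [0, 1, 0, 0, 0, 0, 0, 0, 0], [0, 0, 1, 0, 0, 0, 0, 0, 0], [1,
    0, 1, 0, 0, 0, 0, 0, 0], [1, 1, 1, 0, 0, 0, 0, 0, 0], [1, 0, 0, 1, 0, 0, 0, 0, 0], [1, 1, 0, 1,
    0, 0, 0, 0, 0], [0, 1, 1, 1, 0, 0, 0, 0, 0], [1, 1, 1, 1, 0, 0, 0, 0, 0], [1, 1, 0, 0, 1, 0, 0,
    0, 0], [1, 1, 1, 0, 1, 0, 0, 0, 0], [0, 0, 1, 1, 1, 0, 0, 0, 0], [1, 0, 1, 1, 1, 0, 0, 0, 0],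
    [1, 1, 1, 1, 1, 0, 0, 0, 0], [0, 0, 1, 0, 0, 1, 0, 0, 0], [1, 1, 1, 0, 0, 1, 0, 0, 0], [1, 1,
    0, 1, 0, 1, 0, 0, 0], [1, 1, 1, 1, 0, 1, 0, 0, 0], [1, 0, 1, 0, 1, 1, 0, 0, 0], [1, 0, 0, 1, 1,
    1, 0, 0, 0], [1, 1, 1, 1, 0, 0, 1, 0, 0], [0, 1, 0, 0, 0, 0, 0, 0, 0, 0], [0, 0, 1, 0, 0, 0, 0,
    0, 0, 0], [1, 0, 0, 1, 0, 0, 0, 0, 0, 0], [1, 1, 1, 0, 1, 0, 0, 0, 0, 0], [1, 0, 1, 1, 1, 0, 0,
    0, 0, 0], [1, 1, 1, 1, 1, 0, 0, 0, 0, 0], [1, 1, 1, 0, 0, 1, 0, 0, 0, 0], [1, 1, 1, 1, 0, 1, 0,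
    0, 0, 0], [1, 0, 0, 1, 1, 1, 0, 0, 0, 0], [1, 1, 1, 1, 0, 0, 1, 0, 0, 0], [0, 0, 1, 0, 0, 0, 0,
    0, 0, 0, 0], [1, 1, 1, 1, 0, 1, 0, 0, 0, 0, 0], [1, 1, 1, 1, 0, 0, 1, 0, 0, 0, 0]]

/-- the images of the point 0 under the elements of the centraliser of `e` -/
def candE : List ℕ :=
  [0, 884, 3584, 69155, 122027, 112567, 56057, 47519, 54851, 37747, 9132, 68161, 113551, 37960,
    119350, 116224, 14539, 32759, 18633, 64362, 17877, 94840, 66430, 79249, 1214, 9442, 48752,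
    5109, 101378, 919, 26289, 96377, 66286, 52823, 16501, 13706, 52805, 59805, 82906, 106133,
    23499, 88214, 116868, 43149, 61524, 58748, 25604, 67784, 6518, 48505, 107592, 27336, 13782,
    54189, 56486, 43374, 39159, 95846, 93758, 66749, 97966, 44070, 10544, 13517, 3848, 63010,
    69277, 113978, 44126, 120834, 84538, 40188, 17055, 61991, 46441, 64545, 64875, 111957, 105435,
    118475, 62276, 25878, 121223, 59769, 90647, 58623, 13097, 87231, 28531, 46166, 37188, 14494,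
    42396, 86709, 108411, 102403, 32973, 72997, 99512, 12729, 63332, 114885, 5704, 17114, 52512,
    27130, 100333, 24593, 69711, 12444, 16889, 65623, 119060, 87722, 98038, 109472, 49572, 78146,
    5054, 5808, 121633, 10232, 66042, 121015, 103976, 8792, 62768, 81209, 73136, 50397, 88473,
    106462, 34340, 20367, 116079, 59282, 118300, 6128, 117117, 108037, 86976, 72241, 9021, 76171,
    42084, 106140, 72026, 117911, 20186, 115424, 90704, 76442, 98460, 101287, 29089, 15724, 65370,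
    87641, 29502, 104482, 89352, 3713, 53197, 83441, 23016, 101628, 89631, 46830, 31200, 47520,
    20683, 85780, 112045, 94981, 42657, 62686, 67943, 92085, 36387, 100997]

/-- the actions of `d`, `t` -/
noncomputable def As : List (ℕ → ℕ) := [aD, aT]

/-- the check for the centraliser of `s` at a point -/
noncomputable def FS (δ' : ℕ) : Bool :=
  cond (memN orbS δ') true (Nat.beq (asift A chainS (orbl aS 4 δ')) 0)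

/-- the check that `s` is not conjugate to its third power, at a point -/
noncomputable def FN (δ' : ℕ) : Bool :=
  Nat.beq (asift A chainS (orbl aS3 4 δ')) 0

/-- the check for the centraliser of `e` at a point -/
noncomputable def FE (δ' : ℕ) : Bool :=
  cond (memN candE δ') true (Nat.beq (asift A chainE (orbl aE 3 δ')) 0)

end Cfsg.Agent.Lib.H25.ONOut
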