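import Cfsg.Agent.Lib.H25.ONOut.MainE
import Cfsg.Agent.Lib.H25.ONOut.ChkPa0
import Cfsg.Agent.Lib.H25.ONOut.ChkPa1
import Cfsg.Agent.Lib.H25.ONOut.ChkPa2
import Cfsg.Agent.Lib.H25.ONOut.ChkPa3
import Cfsg.Agent.Lib.H25.ONOut.ChkPb0
import Cfsg.Agent.Lib.H25.ONOut.ChkPb1
import Cfsg.Agent.Lib.H25.ONOut.ChkPb2
import Cfsg.Agent.Lib.H25.ONOut.ChkPb3
import Cfsg.Agent.Lib.H25.ONOut.ThS
import Cfsg.Agent.Lib.H25.ONOut.ThD
import Cfsg.Agent.Lib.H25.ONOut.ThT

set_option autoImplicit false
set_option maxRecDepth 100000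

/-! # The outer automorphism group of the O'Nan group has order two

With the notation of `OutRigid` of helper17: `s` of order 31 generates its own centraliser, `d` of
order 15 normalises it, `t` commutes with `e = d ^ 3`, whose centraliser has 180 elements, and
`s`, `d`, `t` generate the group. An outer automorphism is found as the map sending `s`, `d`, `t`
to `s ^ 3`, `d` and an element of the centraliser of `e`; it is not inner because `s` is not
conjugate to `s ^ 3`. -/

namespace Cfsg.Agent.Lib.H25.ONOut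

open Cfsg.Agent.Lib.H17.CosetCert Cfsg.Agent.Lib.H17.Sgs Cfsg.Agent.Lib.H17.PermActs
  Cfsg.Agent.Lib.H6.PermTab Cfsg.Agent.Lib.H6.ONGlue Cfsg.Agent.Lib.H6.ONIndex
  Cfsg.Agent.Lib.H6.ONSimple Cfsg.Agent.Lib.H25.ActSift Cfsg.Agent.Lib.H17.ConjTest
  Cfsg.Agent.Lib.H17.OutTools Cfsg.Agent.Lib.H17.OutRigid
open Cfsg.Agent.Lib.H17.Sift (pt pt_mul pt_one pt_lt pt_of_lt)

/-- the endomorphism mapping `s`, `d`, `t` to `s ^ 3`, `d`, `tpE` -/
noncomputable def θhom : G →* G :=
  PresentedGroup.toGroup (f := fOf θε) (lift_rels θε letOK_θε θε_words)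

theorem θhom_of (u : Gen) : θhom (PresentedGroup.of u) = fOf θε u := by
  unfold θhom
  rw [PresentedGroup.toGroup.of]

theorem θhom_e (x : ℕ) (hx : x < 8) : θhom (e x) = θε x := by
  interval_cases x
  · exact θhom_of _
  · change θhom (PresentedGroup.of _)⁻¹ = _
    rw [map_inv, θhom_of]
    exact letOK_θε.1.symm
  all_goals exact θhom_of _

theorem θhom_prod (w : List ℕ) (hw : ∀ x ∈ w, x < 8) :
    θhom ((w.map e).prod) = (w.map θε).prod := by
  rw [map_list_prod, List.map_map]
  congr 1
  apply List.map_congr_left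
  intro x hx
  exact θhom_e x (hw x hx)

theorem sE_eq : sE = (wSn.map e).prod := by
  simp only [sE, wS, wSn, elS, el_tb1, el_tb3, el_tb4, el_tb5, el_tb6,
    List.map_cons, List.map_nil, List.prod_cons, List.prod_nil, mul_one, one_mul, mul_assoc]

theorem dE_eq : dE = (wDn.map e).prod := by
  simp only [dE, wD, wDn, elS, el_tb1, el_tb3, el_tb4, el_tb5, el_tb6,
    List.map_cons, List.map_nil, List.prod_cons, List.prod_nil, mul_one, one_mul, mul_assoc]

theorem tE_eq : tE = (wTn.map e).prod := by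
  simp only [tE, wT, wTn, elS, el_tb0, el_tb1, el_tb3, el_tb4, el_tb5, el_tb6,
    List.map_cons, List.map_nil, List.prod_cons, List.prod_nil, mul_one, one_mul, mul_assoc]

theorem θhom_s : θhom sE = sE ^ 3 := by
  rw [sE_eq, θhom_prod wSn (by decide), ← sE_eq]
  exact eq_of_acts bsS_base bsS_lt (acts_prodF θε Fθ acts_θε wSn) acts_s3 thS

theorem θhom_d : θhom dE = dE := by
  rw [dE_eq, θhom_prod wDn (by decide), ← dE_eq]
  exact eq_of_acts bsS_base bsS_lt (acts_prodF θε Fθ acts_θε wDn) acts_dE thD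

theorem θhom_t : θhom tE = tpE := by
  rw [tE_eq, θhom_prod wTn (by decide)]
  exact eq_of_acts bsS_base bsS_lt (acts_prodF θε Fθ acts_θε wTn) acts_tpE thT

theorem θhom_inj : Function.Injective θhom := by
  have := G_simple
  rcases (MonoidHom.normal_ker θhom).eq_bot_or_eq_top with h | h
  · exact (MonoidHom.ker_eq_bot_iff θhom).mp h
  · exfalso
    have hm : sE ∈ θhom.ker := by rw [h]; trivial
    rw [MonoidHom.mem_ker, θhom_s] at hm
    have h3 : orderOf sE ∣ 3 := orderOf_dvd_of_pow_eq_one hm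
    rw [order_sE] at h3
    norm_num at h3

/-- the outer automorphism -/
noncomputable def θ : MulAut G :=
  MulEquiv.ofBijective θhom ⟨θhom_inj, Finite.surjective_of_injective θhom_inj⟩

theorem θ_apply (x : G) : θ x = θhom x := rfl

theorem θ_s : θ sE = sE ^ 3 := θhom_s

theorem θ_d : θ dE = dE := θhom_d

theorem θ_t : θ tE = tpE := θhom_t

theorem θ_not_inner : θ ∉ (MulAut.conj : G →* MulAut G).range := by
  rintro ⟨k, hk⟩
  have h1 : k * sE * k⁻¹ = sE ^ 3 := by
    rw [← θ_s, ← hk, MulAut.conj_apply]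
  exact not_conj3 k (by rw [← h1]; group)

/-! ## The images of `t` -/

theorem hA3 : List.Forall₂ (fun x A => Acts phi x A) [sE, dE, tE] [aS, aD, aT] :=
  List.Forall₂.cons acts_sE (List.Forall₂.cons acts_dE (List.Forall₂.cons acts_tE
    List.Forall₂.nil))

theorem rel_ok : ∀ r < 5, evalW [sE, dE, tE] (rU r) ^ (rM r) = 1 := by
  intro r hr
  apply eq_of_acts bsS_base bsS_lt (acts_iterF (acts_evalF hA3 (rU r)) (rM r)) Acts.one
  interval_cases r <;> decide +kernel

theorem pair_excl (j : ℕ) (good w : List ℕ) (e : ℕ × ℕ) (h : chkPair j good w e = true)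
    (α : MulAut G) (hs : α sE = sE ^ j) (hd : α dE = dE) (ht : α tE = evalW vals w) :
    w = good := by
  unfold chkPair at h
  cases h9 : Nat.beq e.1 9 with
  | true =>
    rw [h9] at h
    simpa using h
  | false =>
    exfalso
    rw [h9] at h
    simp only [cond_false] at h
    cases h4 : Nat.blt e.1 5 with
    | false => rw [h4] at h; exact absurd h (by simp)
    | true =>
      rw [h4] at h
      simp only [cond_true] at h
      cases hp : Nat.blt e.2 122760 with
      | false => rw [hp] at h; exact absurd h (by simp)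
      | true =>
        rw [hp] at h
        simp only [cond_true] at h
        cases hb : Nat.beq (iterF (evalF [iterF aS j, aD, evalF As w] (rU e.1)) (rM e.1) e.2)
            e.2 with
        | true => rw [hb] at h; exact absurd h (by simp)
        | false =>
          have hr : e.1 < 5 := by simpa [Nat.blt_eq] using h4
          have hp' : e.2 < 122760 := by simpa [Nat.blt_eq] using hp
          have h2 := congrArg α (rel_ok e.1 hr)
          rw [map_pow, map_one, map_evalW_equiv] at h2
          simp only [List.map_cons, List.map_nil, hs, hd, ht] at h2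
          exact relator_absurdF (List.Forall₂.cons (acts_iterF acts_sE j)
            (List.Forall₂.cons acts_dE (List.Forall₂.cons (acts_evalF hvals w)
              List.Forall₂.nil))) (rU e.1) (rM e.1) e.2 hp' h2 hb

theorem chkP1 : ∀ w ∈ CW, ∃ e, chkPair 1 [1] w e = true := by
  intro w hw
  rw [CW_parts] at hw
  simp only [List.mem_append] at hw
  rcases hw with ((hw | hw) | hw) | hw
  · exact chkAll_sound _ _ _ chkP1_0 w hw
  · exact chkAll_sound _ _ _ chkP1_1 w hw
  · exact chkAll_sound _ _ _ chkP1_2 w hw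
  · exact chkAll_sound _ _ _ chkP1_3 w hw

theorem chkP3 : ∀ w ∈ CW, ∃ e, chkPair 3 wTp w e = true := by
  intro w hw
  rw [CW_parts] at hw
  simp only [List.mem_append] at hw
  rcases hw with ((hw | hw) | hw) | hw
  · exact chkAll_sound _ _ _ chkP3_0 w hw
  · exact chkAll_sound _ _ _ chkP3_1 w hw
  · exact chkAll_sound _ _ _ chkP3_2 w hw
  · exact chkAll_sound _ _ _ chkP3_3 w hw

theorem hex : ∀ j ∈ [1, 3], ∀ α : MulAut G, α sE = sE ^ j → α dE = dE →
    (α sE = sE ∧ α tE = tE) ∨ (α sE = θ sE ∧ α tE = θ tE) := by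
  intro j hj α hs hd
  have he : α eE = eE := by
    unfold eE
    rw [map_pow, hd]
  have hcomm : α tE * eE = eE * α tE := by
    have := congrArg α (comm_vals tE (by simp [vals]))
    rwa [map_mul, map_mul, he] at this
  obtain ⟨w, hw, hwe⟩ := cent_e _ hcomm
  simp only [List.mem_cons, List.not_mem_nil, or_false] at hj
  rcases hj with rfl | rfl
  · left
    obtain ⟨e, he⟩ := chkP1 w hw
    have hw3 := pair_excl 1 [1] w e he α hs hd hwe
    refine ⟨by rw [hs, pow_one], ?_⟩
    rw [hwe, hw3]
    simp [evalW, vals]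
  · right
    obtain ⟨e, he⟩ := chkP3 w hw
    have hw3 := pair_excl 3 wTp w e he α hs hd hwe
    refine ⟨by rw [hs, θ_s], ?_⟩
    rw [hwe, hw3, θ_t]
    rfl

theorem hJ : ∀ i, 0 < i → i < 31 → ∃ j ∈ [1, 3], ∃ l, (i * 9 ^ l) % 31 = j % 31 := by
  have h : ∀ i < 31, 0 < i → ∃ j ∈ [1, 3], ∃ l < 15, (i * 9 ^ l) % 31 = j % 31 := by
    decide +kernel
  intro i h0 h1
  obtain ⟨j, hj, l, -, hl⟩ := h i h1 h0
  exact ⟨j, hj, l, hl⟩

/-- the group of outer automorphisms has order two -/
theorem card_out : Nat.card (MulAut G ⧸ (MulAut.conj : G →* MulAut G).range) = 2 :=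
  card_out_eq_two (p := 31) (a := 9) (c := 4) (by norm_num) (by rw [G_card]; decide) sE dE tE
    order_sE hds cent_s (by decide) [1, 3] hJ hgen θ θ_d θ_not_inner hex

end Cfsg.Agent.Lib.H25.ONOut
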