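import Cfsg.Agent.Lib.H25.ONOut.MainData

set_option autoImplicit false
set_option maxRecDepth 100000

/-! # Actions and checks for the outer automorphisms of the O'Nan group: definitions

The functions which the computations of the automorphism use: the actions of the inverses of `s`,
`d`, `t`, of the images of `s`, `d`, `t` under the outer automorphism, the images of the letters,
and the check of a candidate image of `t`. The base words of the presentation and the words of the
centraliser of `e` are cut into parts, one for each file of computations. -/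

namespace Cfsg.Agent.Lib.H25.ONOut

open Cfsg.Agent.Lib.H17.CosetCert Cfsg.Agent.Lib.H17.Sgs Cfsg.Agent.Lib.H17.PermActs
  Cfsg.Agent.Lib.H6.PermTab Cfsg.Agent.Lib.H6.ONGlue Cfsg.Agent.Lib.H6.ONIndex
  Cfsg.Agent.Lib.H6.ONSimple Cfsg.Agent.Lib.H25.ActSift Cfsg.Agent.Lib.H17.ConjTest
  Cfsg.Agent.Lib.H17.OutTools Cfsg.Agent.Lib.H17.OutRigid

/-- the action of the inverse of `s` -/
noncomputable abbrev aSi : ℕ → ℕ := applyW A wSi

/-- the action of the inverse of `d` -/
noncomputable abbrev aDi : ℕ → ℕ := applyW A wDi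

/-- the action of the inverse of `t` -/
noncomputable abbrev aTi : ℕ → ℕ := applyW A wTi

/-- the actions of `s`, `d`, `t` and their inverses -/
noncomputable def As6 : List (ℕ → ℕ) := [aS, aD, aT, aSi, aDi, aTi]

/-- the action of the image of `t` under the outer automorphism -/
noncomputable abbrev aTp : ℕ → ℕ := evalF As wTp

/-- the action of the inverse of that image -/
noncomputable abbrev aTpi : ℕ → ℕ := evalF [aDi, aTi] wTpi

/-- the action of the inverse of the third power of `s` -/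
noncomputable abbrev aS3i : ℕ → ℕ := iterF aSi 3

/-- the actions of the images of `s`, `d`, `t` and their inverses -/
noncomputable def As6θ : List (ℕ → ℕ) := [aS3, aD, aTp, aS3i, aDi, aTpi]

/-- the actions of the images of the letters -/
noncomputable def Fθ (x : ℕ) : ℕ → ℕ := evalF As6θ (WL x)

/-- the letters of `s` -/
def wSn : List ℕ := [0, 3, 4, 6, 5]

/-- the letters of `d` -/
def wDn : List ℕ := [0, 4, 6, 5, 4, 3, 5, 6, 0, 3, 4, 5, 4, 5, 6, 5, 4, 3, 0, 6]

/-- the letters of `t` -/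
def wTn : List ℕ := [3, 5, 4, 5, 0, 3, 4, 5, 0, 6, 5, 4, 3, 5, 1, 4, 3, 6, 5, 0, 4, 3, 5]

/-- the check of a candidate `w` for the image of `t` with a witness `e` -/
noncomputable def chkPair (j : ℕ) (good w : List ℕ) (e : ℕ × ℕ) : Bool :=
  cond (Nat.beq e.1 9) (decide (w = good))
    (cond (Nat.blt e.1 5) (cond (Nat.blt e.2 122760)
      (cond (Nat.beq (iterF (evalF [iterF aS j, aD, evalF As w] (rU e.1)) (rM e.1) e.2) e.2)
        false true) false) false)

/-- part 0 of the base words of the presentation -/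
def bwP0 : List (List ℕ) :=
  [[2, 2], [3, 3], [4, 4], [5, 5], [6, 6], [7, 7], [2, 3, 2, 3, 2, 3], [2, 4, 2, 4], [2, 5, 2, 5], [2, 6, 2, 6]]

/-- part 1 of the base words of the presentation -/
def bwP1 : List (List ℕ) :=
  [[2, 7, 2, 7], [3, 4, 3, 4, 3, 4], [3, 5, 3, 5], [3, 6, 3, 6], [3, 7, 3, 7]]

/-- part 2 of the base words of the presentation -/
def bwP2 : List (List ℕ) :=
  [[4, 5, 4, 5, 4, 5, 4, 5, 4, 5, 4, 5, 4, 5, 4, 5], [4, 6, 4, 6], [4, 7, 4, 7], [5, 6, 5, 6, 5, 6]]

/-- part 3 of the base words of the presentation -/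
def bwP3 : List (List ℕ) :=
  [[5, 7, 5, 7], [6, 7, 6, 7, 6, 7], [2, 7, 1, 1], [2, 7, 5, 4, 5, 4, 5, 4, 5, 4]]

/-- part 4 of the base words of the presentation -/
def bwP4 : List (List ℕ) :=
  [[4, 1, 5, 1, 5, 4, 5, 0, 5, 0], [5, 1, 4, 1, 4, 5, 4, 0, 4, 0]]

/-- part 5 of the base words of the presentation -/
def bwP5 : List (List ℕ) :=
  [[3, 4, 5, 0, 3, 4, 5, 0, 3, 4, 5, 0, 3, 4, 5, 0, 3, 4, 5, 0]]

/-- part 6 of the base words of the presentation -/
def bwP6 : List (List ℕ) :=
  [[0, 3, 4, 0, 4, 3, 0, 3, 4, 0, 4], [0, 6, 5, 0, 5, 6, 0, 6, 5, 0, 5]]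

theorem baseW_parts : baseW = bwP0 ++ bwP1 ++ bwP2 ++ bwP3 ++ bwP4 ++ bwP5 ++ bwP6 := by
  decide

/-- part `k` of the words of the centraliser of `e` -/
def CWp (k : ℕ) : List (List ℕ) := (CW.drop (k * 45)).take 45

/-- part `k` of the witnesses for the exponent 1 -/
def WT1p (k : ℕ) : List (ℕ × ℕ) := (WT1.drop (k * 45)).take 45

/-- part `k` of the witnesses for the exponent 3 -/
def WT3p (k : ℕ) : List (ℕ × ℕ) := (WT3.drop (k * 45)).take 45

theorem CW_parts : CW = CWp 0 ++ CWp 1 ++ CWp 2 ++ CWp 3 := by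
  decide

end Cfsg.Agent.Lib.H25.ONOut
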