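import Cfsg.Agent.Lib.H25.ONOut.Chains
import Cfsg.Agent.Lib.H25.ONOut.MainDefs

set_option autoImplicit false
set_option maxRecDepth 100000

/-! # The O'Nan group: the elements `s`, `d`, `t`, `e` and their inverses

The element `s` has order 31, the element `d` of order 15 normalises the group it generates, `t`
commutes with `e`, the third power of `d`. -/

namespace Cfsg.Agent.Lib.H25.ONOut

open Cfsg.Agent.Lib.H17.CosetCert Cfsg.Agent.Lib.H17.Sgs Cfsg.Agent.Lib.H17.PermActs
  Cfsg.Agent.Lib.H6.PermTab Cfsg.Agent.Lib.H6.ONGlue Cfsg.Agent.Lib.H6.ONIndex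
  Cfsg.Agent.Lib.H6.ONSimple Cfsg.Agent.Lib.H25.ActSift Cfsg.Agent.Lib.H17.ConjTest
  Cfsg.Agent.Lib.H17.OutTools Cfsg.Agent.Lib.H17.OutRigid
open Cfsg.Agent.Lib.H17.Sift (pt pt_mul pt_one pt_lt pt_of_lt)

/-! ## The elements -/

/-- the element `s` -/
noncomputable def sE : G := elS el wS

/-- the element `d` -/
noncomputable def dE : G := elS el wD

/-- the element `t` -/
noncomputable def tE : G := elS el wT

/-- the element `e` -/
noncomputable def eE : G := dE ^ 3

theorem words_let : letChk letters [wS, wD, wT, wSi, wDi, wTi, wS3, wE] = true := by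
  decide +kernel

theorem word_let (w : List ℕ) (hw : w ∈ [wS, wD, wT, wSi, wDi, wTi, wS3, wE]) :
    ∀ x ∈ w, x ∈ letters := letChk_sound letters _ words_let w hw

theorem acts_sE : Acts phi sE aS := acts_word wS (word_let wS (by simp))

theorem acts_dE : Acts phi dE aD := acts_word wD (word_let wD (by simp))

theorem acts_tE : Acts phi tE aT := acts_word wT (word_let wT (by simp))

theorem cube_eq (w : List ℕ) : elS el (w ++ w ++ w) = elS el w ^ 3 := by
  rw [elS_append, elS_append, pow_succ, pow_two, mul_assoc]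

theorem acts_s3 : Acts phi (sE ^ 3) aS3 := by
  have h := acts_word wS3 (word_let wS3 (by simp))
  have e1 : wS3 = wS ++ wS ++ wS := rfl
  rw [e1, cube_eq] at h
  exact h

theorem acts_eE : Acts phi eE aE := by
  have h := acts_word wE (word_let wE (by simp))
  have e1 : wE = wD ++ wD ++ wD := rfl
  rw [e1, cube_eq] at h
  exact h

theorem sE_inv : sE⁻¹ = elS el wSi := by
  apply inv_eq_of_mul_eq_one_left
  exact eq_of_acts bsS_base bsS_lt
    (acts_mulF (acts_word wSi (word_let wSi (by simp))) acts_sE) Acts.one (by decide +kernel)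

theorem dE_inv : dE⁻¹ = elS el wDi := by
  apply inv_eq_of_mul_eq_one_left
  exact eq_of_acts bsS_base bsS_lt
    (acts_mulF (acts_word wDi (word_let wDi (by simp))) acts_dE) Acts.one (by decide +kernel)

theorem tE_inv : tE⁻¹ = elS el wTi := by
  apply inv_eq_of_mul_eq_one_left
  exact eq_of_acts bsS_base bsS_lt
    (acts_mulF (acts_word wTi (word_let wTi (by simp))) acts_tE) Acts.one (by decide +kernel)

theorem acts_sEi : Acts phi sE⁻¹ aSi := by
  rw [sE_inv]; exact acts_word wSi (word_let wSi (by simp))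

theorem acts_dEi : Acts phi dE⁻¹ aDi := by
  rw [dE_inv]; exact acts_word wDi (word_let wDi (by simp))

theorem acts_tEi : Acts phi tE⁻¹ aTi := by
  rw [tE_inv]; exact acts_word wTi (word_let wTi (by simp))

end Cfsg.Agent.Lib.H25.ONOut
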