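import Cfsg.Agent.Lib.H25.ONOut.MainA

set_option autoImplicit false
set_option maxRecDepth 100000

/-! # The O'Nan group: the order of `s` and the action of `d` on it -/

namespace Cfsg.Agent.Lib.H25.ONOut

open Cfsg.Agent.Lib.H17.CosetCert Cfsg.Agent.Lib.H17.Sgs Cfsg.Agent.Lib.H17.PermActs
  Cfsg.Agent.Lib.H6.PermTab Cfsg.Agent.Lib.H6.ONGlue Cfsg.Agent.Lib.H6.ONIndex
  Cfsg.Agent.Lib.H6.ONSimple Cfsg.Agent.Lib.H25.ActSift Cfsg.Agent.Lib.H17.ConjTest
  Cfsg.Agent.Lib.H17.OutTools Cfsg.Agent.Lib.H17.OutRigid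
open Cfsg.Agent.Lib.H17.Sift (pt pt_mul pt_one pt_lt pt_of_lt)

/-! ## The order of `s`, the action of `d` on it -/

theorem sE_pow : sE ^ 31 = 1 :=
  eq_of_acts bsS_base bsS_lt (acts_iterF acts_sE 31) Acts.one (by decide +kernel)

theorem sE_ne : sE ≠ 1 :=
  ne_of_acts acts_sE Acts.one 0 (by decide) (by decide +kernel)

theorem order_sE : orderOf sE = 31 := by
  have : Fact (Nat.Prime 31) := ⟨by norm_num⟩
  exact orderOf_eq_prime sE_pow sE_ne

theorem hds : dE * sE * dE⁻¹ = sE ^ 9 := by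
  rw [mul_inv_eq_iff_eq_mul]
  exact eq_of_acts bsS_base bsS_lt (acts_mulF acts_dE acts_sE)
    (acts_mulF (acts_iterF acts_sE 9) acts_dE) (by decide +kernel)

end Cfsg.Agent.Lib.H25.ONOut
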