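import Cfsg.Agent.Lib.H25.ONOut.SwS0
import Cfsg.Agent.Lib.H25.ONOut.SwS1
import Cfsg.Agent.Lib.H25.ONOut.SwS2
import Cfsg.Agent.Lib.H25.ONOut.SwS3
import Cfsg.Agent.Lib.H25.ONOut.SwS4
import Cfsg.Agent.Lib.H25.ONOut.SwS5
import Cfsg.Agent.Lib.H25.ONOut.SwS6
import Cfsg.Agent.Lib.H25.ONOut.SwS7
import Cfsg.Agent.Lib.H25.ONOut.SwS8
import Cfsg.Agent.Lib.H25.ONOut.SwS9
import Cfsg.Agent.Lib.H25.ONOut.SwS10
import Cfsg.Agent.Lib.H25.ONOut.SwS11
import Cfsg.Agent.Lib.H25.ONOut.SwS12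
import Cfsg.Agent.Lib.H25.ONOut.SwS13
import Cfsg.Agent.Lib.H25.ONOut.SwS14
import Cfsg.Agent.Lib.H25.ONOut.SwS15
import Cfsg.Agent.Lib.H25.ONOut.SwS16
import Cfsg.Agent.Lib.H25.ONOut.SwS17
import Cfsg.Agent.Lib.H25.ONOut.SwS18
import Cfsg.Agent.Lib.H25.ONOut.SwS19
import Cfsg.Agent.Lib.H25.ONOut.SwS20
import Cfsg.Agent.Lib.H25.ONOut.SwS21
import Cfsg.Agent.Lib.H25.ONOut.SwS22
import Cfsg.Agent.Lib.H25.ONOut.SwS23
import Cfsg.Agent.Lib.H25.ONOut.SwS24
import Cfsg.Agent.Lib.H25.ONOut.SwS25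
import Cfsg.Agent.Lib.H25.ONOut.SwS26
import Cfsg.Agent.Lib.H25.ONOut.SwS27
import Cfsg.Agent.Lib.H25.ONOut.SwS28
import Cfsg.Agent.Lib.H25.ONOut.SwS29
import Cfsg.Agent.Lib.H25.ONOut.SwS30
import Cfsg.Agent.Lib.H25.ONOut.SwS31
import Cfsg.Agent.Lib.H25.ONOut.SwS32
import Cfsg.Agent.Lib.H25.ONOut.SwS33
import Cfsg.Agent.Lib.H25.ONOut.SwS34
import Cfsg.Agent.Lib.H25.ONOut.SwS35
import Cfsg.Agent.Lib.H25.ONOut.SwS36
import Cfsg.Agent.Lib.H25.ONOut.SwS37
import Cfsg.Agent.Lib.H25.ONOut.SwS38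
import Cfsg.Agent.Lib.H25.ONOut.SwS39
import Cfsg.Agent.Lib.H25.ONOut.SwS40
import Cfsg.Agent.Lib.H25.ONOut.SwS41
import Cfsg.Agent.Lib.H25.ONOut.SwS42
import Cfsg.Agent.Lib.H25.ONOut.SwS43
import Cfsg.Agent.Lib.H25.ONOut.SwS44
import Cfsg.Agent.Lib.H25.ONOut.SwS45
import Cfsg.Agent.Lib.H25.ONOut.SwS46
import Cfsg.Agent.Lib.H25.ONOut.SwS47
import Cfsg.Agent.Lib.H25.ONOut.SwS48
import Cfsg.Agent.Lib.H25.ONOut.SwS49
import Cfsg.Agent.Lib.H25.ONOut.SwS50
import Cfsg.Agent.Lib.H25.ONOut.SwS51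
import Cfsg.Agent.Lib.H25.ONOut.SwS52
import Cfsg.Agent.Lib.H25.ONOut.SwS53
import Cfsg.Agent.Lib.H25.ONOut.SwS54
import Cfsg.Agent.Lib.H25.ONOut.SwS55
import Cfsg.Agent.Lib.H25.ONOut.SwS56
import Cfsg.Agent.Lib.H25.ONOut.SwS57
import Cfsg.Agent.Lib.H25.ONOut.SwS58
import Cfsg.Agent.Lib.H25.ONOut.SwS59
import Cfsg.Agent.Lib.H25.ONOut.SwS60
import Cfsg.Agent.Lib.H25.ONOut.SwS61
import Cfsg.Agent.Lib.H25.ONOut.SwS62
import Cfsg.Agent.Lib.H25.ONOut.SwS63
import Cfsg.Agent.Lib.H25.ONOut.SwS64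
import Cfsg.Agent.Lib.H25.ONOut.SwS65
import Cfsg.Agent.Lib.H25.ONOut.SwS66
import Cfsg.Agent.Lib.H25.ONOut.SwS67
import Cfsg.Agent.Lib.H25.ONOut.SwS68
import Cfsg.Agent.Lib.H25.ONOut.SwS69
import Cfsg.Agent.Lib.H25.ONOut.SwS70
import Cfsg.Agent.Lib.H25.ONOut.SwS71
import Cfsg.Agent.Lib.H25.ONOut.SwS72
import Cfsg.Agent.Lib.H25.ONOut.SwS73
import Cfsg.Agent.Lib.H25.ONOut.SwS74
import Cfsg.Agent.Lib.H25.ONOut.SwS75
import Cfsg.Agent.Lib.H25.ONOut.SwS76
import Cfsg.Agent.Lib.H25.ONOut.SwS77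
import Cfsg.Agent.Lib.H25.ONOut.SwS78
import Cfsg.Agent.Lib.H25.ONOut.SwS79
import Cfsg.Agent.Lib.H25.ONOut.SwS80
import Cfsg.Agent.Lib.H25.ONOut.SwS81
import Cfsg.Agent.Lib.H25.ONOut.SwS82
import Cfsg.Agent.Lib.H25.ONOut.SwS83
import Cfsg.Agent.Lib.H25.ONOut.SwS84
import Cfsg.Agent.Lib.H25.ONOut.SwS85
import Cfsg.Agent.Lib.H25.ONOut.SwS86
import Cfsg.Agent.Lib.H25.ONOut.SwS87
import Cfsg.Agent.Lib.H25.ONOut.SwS88
import Cfsg.Agent.Lib.H25.ONOut.SwS89
import Cfsg.Agent.Lib.H25.ONOut.SwN0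
import Cfsg.Agent.Lib.H25.ONOut.SwN1
import Cfsg.Agent.Lib.H25.ONOut.SwN2
import Cfsg.Agent.Lib.H25.ONOut.SwN3
import Cfsg.Agent.Lib.H25.ONOut.SwN4
import Cfsg.Agent.Lib.H25.ONOut.SwN5
import Cfsg.Agent.Lib.H25.ONOut.SwN6
import Cfsg.Agent.Lib.H25.ONOut.SwN7
import Cfsg.Agent.Lib.H25.ONOut.SwN8
import Cfsg.Agent.Lib.H25.ONOut.SwN9
import Cfsg.Agent.Lib.H25.ONOut.SwN10
import Cfsg.Agent.Lib.H25.ONOut.SwN11
import Cfsg.Agent.Lib.H25.ONOut.SwN12
import Cfsg.Agent.Lib.H25.ONOut.SwN13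
import Cfsg.Agent.Lib.H25.ONOut.SwN14
import Cfsg.Agent.Lib.H25.ONOut.SwN15
import Cfsg.Agent.Lib.H25.ONOut.SwN16
import Cfsg.Agent.Lib.H25.ONOut.SwN17
import Cfsg.Agent.Lib.H25.ONOut.SwN18
import Cfsg.Agent.Lib.H25.ONOut.SwN19
import Cfsg.Agent.Lib.H25.ONOut.SwN20
import Cfsg.Agent.Lib.H25.ONOut.SwN21
import Cfsg.Agent.Lib.H25.ONOut.SwN22
import Cfsg.Agent.Lib.H25.ONOut.SwN23
import Cfsg.Agent.Lib.H25.ONOut.SwN24
import Cfsg.Agent.Lib.H25.ONOut.SwN25
import Cfsg.Agent.Lib.H25.ONOut.SwN26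
import Cfsg.Agent.Lib.H25.ONOut.SwN27
import Cfsg.Agent.Lib.H25.ONOut.SwN28
import Cfsg.Agent.Lib.H25.ONOut.SwN29
import Cfsg.Agent.Lib.H25.ONOut.SwN30
import Cfsg.Agent.Lib.H25.ONOut.SwN31
import Cfsg.Agent.Lib.H25.ONOut.SwN32
import Cfsg.Agent.Lib.H25.ONOut.SwN33
import Cfsg.Agent.Lib.H25.ONOut.SwN34
import Cfsg.Agent.Lib.H25.ONOut.SwN35
import Cfsg.Agent.Lib.H25.ONOut.SwN36
import Cfsg.Agent.Lib.H25.ONOut.SwN37
import Cfsg.Agent.Lib.H25.ONOut.SwN38
import Cfsg.Agent.Lib.H25.ONOut.SwN39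
import Cfsg.Agent.Lib.H25.ONOut.SwN40
import Cfsg.Agent.Lib.H25.ONOut.SwN41
import Cfsg.Agent.Lib.H25.ONOut.SwN42
import Cfsg.Agent.Lib.H25.ONOut.SwN43
import Cfsg.Agent.Lib.H25.ONOut.SwN44
import Cfsg.Agent.Lib.H25.ONOut.SwN45
import Cfsg.Agent.Lib.H25.ONOut.SwN46
import Cfsg.Agent.Lib.H25.ONOut.SwN47
import Cfsg.Agent.Lib.H25.ONOut.SwN48
import Cfsg.Agent.Lib.H25.ONOut.SwN49
import Cfsg.Agent.Lib.H25.ONOut.SwN50
import Cfsg.Agent.Lib.H25.ONOut.SwN51
import Cfsg.Agent.Lib.H25.ONOut.SwN52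
import Cfsg.Agent.Lib.H25.ONOut.SwN53
import Cfsg.Agent.Lib.H25.ONOut.SwN54
import Cfsg.Agent.Lib.H25.ONOut.SwN55
import Cfsg.Agent.Lib.H25.ONOut.SwN56
import Cfsg.Agent.Lib.H25.ONOut.SwN57
import Cfsg.Agent.Lib.H25.ONOut.SwN58
import Cfsg.Agent.Lib.H25.ONOut.SwN59
import Cfsg.Agent.Lib.H25.ONOut.SwN60
import Cfsg.Agent.Lib.H25.ONOut.SwN61
import Cfsg.Agent.Lib.H25.ONOut.SwN62
import Cfsg.Agent.Lib.H25.ONOut.SwN63
import Cfsg.Agent.Lib.H25.ONOut.SwN64
import Cfsg.Agent.Lib.H25.ONOut.SwN65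
import Cfsg.Agent.Lib.H25.ONOut.SwN66
import Cfsg.Agent.Lib.H25.ONOut.SwN67
import Cfsg.Agent.Lib.H25.ONOut.SwN68
import Cfsg.Agent.Lib.H25.ONOut.SwN69
import Cfsg.Agent.Lib.H25.ONOut.SwN70
import Cfsg.Agent.Lib.H25.ONOut.SwN71
import Cfsg.Agent.Lib.H25.ONOut.SwN72
import Cfsg.Agent.Lib.H25.ONOut.SwN73
import Cfsg.Agent.Lib.H25.ONOut.SwN74
import Cfsg.Agent.Lib.H25.ONOut.SwN75
import Cfsg.Agent.Lib.H25.ONOut.SwN76
import Cfsg.Agent.Lib.H25.ONOut.SwN77
import Cfsg.Agent.Lib.H25.ONOut.SwN78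
import Cfsg.Agent.Lib.H25.ONOut.SwN79
import Cfsg.Agent.Lib.H25.ONOut.SwN80
import Cfsg.Agent.Lib.H25.ONOut.SwN81
import Cfsg.Agent.Lib.H25.ONOut.SwN82
import Cfsg.Agent.Lib.H25.ONOut.SwN83
import Cfsg.Agent.Lib.H25.ONOut.SwN84
import Cfsg.Agent.Lib.H25.ONOut.SwN85
import Cfsg.Agent.Lib.H25.ONOut.SwN86
import Cfsg.Agent.Lib.H25.ONOut.SwN87
import Cfsg.Agent.Lib.H25.ONOut.SwN88
import Cfsg.Agent.Lib.H25.ONOut.SwN89
import Cfsg.Agent.Lib.H25.ONOut.SwE0
import Cfsg.Agent.Lib.H25.ONOut.SwE1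
import Cfsg.Agent.Lib.H25.ONOut.SwE2
import Cfsg.Agent.Lib.H25.ONOut.SwE3
import Cfsg.Agent.Lib.H25.ONOut.SwE4
import Cfsg.Agent.Lib.H25.ONOut.SwE5
import Cfsg.Agent.Lib.H25.ONOut.SwE6
import Cfsg.Agent.Lib.H25.ONOut.SwE7
import Cfsg.Agent.Lib.H25.ONOut.SwE8
import Cfsg.Agent.Lib.H25.ONOut.SwE9
import Cfsg.Agent.Lib.H25.ONOut.SwE10
import Cfsg.Agent.Lib.H25.ONOut.SwE11
import Cfsg.Agent.Lib.H25.ONOut.SwE12
import Cfsg.Agent.Lib.H25.ONOut.SwE13
import Cfsg.Agent.Lib.H25.ONOut.SwE14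
import Cfsg.Agent.Lib.H25.ONOut.SwE15
import Cfsg.Agent.Lib.H25.ONOut.SwE16
import Cfsg.Agent.Lib.H25.ONOut.SwE17
import Cfsg.Agent.Lib.H25.ONOut.SwE18
import Cfsg.Agent.Lib.H25.ONOut.SwE19
import Cfsg.Agent.Lib.H25.ONOut.SwE20
import Cfsg.Agent.Lib.H25.ONOut.SwE21
import Cfsg.Agent.Lib.H25.ONOut.SwE22
import Cfsg.Agent.Lib.H25.ONOut.SwE23
import Cfsg.Agent.Lib.H25.ONOut.SwE24
import Cfsg.Agent.Lib.H25.ONOut.SwE25
import Cfsg.Agent.Lib.H25.ONOut.SwE26
import Cfsg.Agent.Lib.H25.ONOut.SwE27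
import Cfsg.Agent.Lib.H25.ONOut.SwE28
import Cfsg.Agent.Lib.H25.ONOut.SwE29
import Cfsg.Agent.Lib.H25.ONOut.SwE30
import Cfsg.Agent.Lib.H25.ONOut.SwE31
import Cfsg.Agent.Lib.H25.ONOut.SwE32
import Cfsg.Agent.Lib.H25.ONOut.SwE33
import Cfsg.Agent.Lib.H25.ONOut.SwE34
import Cfsg.Agent.Lib.H25.ONOut.SwE35
import Cfsg.Agent.Lib.H25.ONOut.SwE36
import Cfsg.Agent.Lib.H25.ONOut.SwE37
import Cfsg.Agent.Lib.H25.ONOut.SwE38
import Cfsg.Agent.Lib.H25.ONOut.SwE39
import Cfsg.Agent.Lib.H25.ONOut.SwE40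
import Cfsg.Agent.Lib.H25.ONOut.SwE41
import Cfsg.Agent.Lib.H25.ONOut.SwE42
import Cfsg.Agent.Lib.H25.ONOut.SwE43
import Cfsg.Agent.Lib.H25.ONOut.SwE44
import Cfsg.Agent.Lib.H25.ONOut.SwE45
import Cfsg.Agent.Lib.H25.ONOut.SwE46
import Cfsg.Agent.Lib.H25.ONOut.SwE47
import Cfsg.Agent.Lib.H25.ONOut.SwE48
import Cfsg.Agent.Lib.H25.ONOut.SwE49
import Cfsg.Agent.Lib.H25.ONOut.SwE50
import Cfsg.Agent.Lib.H25.ONOut.SwE51
import Cfsg.Agent.Lib.H25.ONOut.SwE52
import Cfsg.Agent.Lib.H25.ONOut.SwE53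
import Cfsg.Agent.Lib.H25.ONOut.SwE54
import Cfsg.Agent.Lib.H25.ONOut.SwE55
import Cfsg.Agent.Lib.H25.ONOut.SwE56
import Cfsg.Agent.Lib.H25.ONOut.SwE57
import Cfsg.Agent.Lib.H25.ONOut.SwE58
import Cfsg.Agent.Lib.H25.ONOut.SwE59
import Cfsg.Agent.Lib.H25.ONOut.SwE60
import Cfsg.Agent.Lib.H25.ONOut.SwE61
import Cfsg.Agent.Lib.H25.ONOut.SwE62
import Cfsg.Agent.Lib.H25.ONOut.SwE63
import Cfsg.Agent.Lib.H25.ONOut.SwE64
import Cfsg.Agent.Lib.H25.ONOut.SwE65
import Cfsg.Agent.Lib.H25.ONOut.SwE66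
import Cfsg.Agent.Lib.H25.ONOut.SwE67
import Cfsg.Agent.Lib.H25.ONOut.SwE68
import Cfsg.Agent.Lib.H25.ONOut.SwE69
import Cfsg.Agent.Lib.H25.ONOut.SwE70
import Cfsg.Agent.Lib.H25.ONOut.SwE71
import Cfsg.Agent.Lib.H25.ONOut.SwE72
import Cfsg.Agent.Lib.H25.ONOut.SwE73
import Cfsg.Agent.Lib.H25.ONOut.SwE74
import Cfsg.Agent.Lib.H25.ONOut.SwE75
import Cfsg.Agent.Lib.H25.ONOut.SwE76
import Cfsg.Agent.Lib.H25.ONOut.SwE77
import Cfsg.Agent.Lib.H25.ONOut.SwE78
import Cfsg.Agent.Lib.H25.ONOut.SwE79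
import Cfsg.Agent.Lib.H25.ONOut.SwE80
import Cfsg.Agent.Lib.H25.ONOut.SwE81
import Cfsg.Agent.Lib.H25.ONOut.SwE82
import Cfsg.Agent.Lib.H25.ONOut.SwE83
import Cfsg.Agent.Lib.H25.ONOut.SwE84
import Cfsg.Agent.Lib.H25.ONOut.SwE85
import Cfsg.Agent.Lib.H25.ONOut.SwE86
import Cfsg.Agent.Lib.H25.ONOut.SwE87
import Cfsg.Agent.Lib.H25.ONOut.SwE88
import Cfsg.Agent.Lib.H25.ONOut.SwE89
import Cfsg.Agent.Lib.H25.ONOut.SwE90
import Cfsg.Agent.Lib.H25.ONOut.SwE91
import Cfsg.Agent.Lib.H25.ONOut.SwE92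
import Cfsg.Agent.Lib.H25.ONOut.SwE93
import Cfsg.Agent.Lib.H25.ONOut.SwE94
import Cfsg.Agent.Lib.H25.ONOut.SwE95
import Cfsg.Agent.Lib.H25.ONOut.SwE96
import Cfsg.Agent.Lib.H25.ONOut.SwE97
import Cfsg.Agent.Lib.H25.ONOut.SwE98
import Cfsg.Agent.Lib.H25.ONOut.SwE99
import Cfsg.Agent.Lib.H25.ONOut.SwE100
import Cfsg.Agent.Lib.H25.ONOut.SwE101
import Cfsg.Agent.Lib.H25.ONOut.SwE102
import Cfsg.Agent.Lib.H25.ONOut.SwE103
import Cfsg.Agent.Lib.H25.ONOut.SwE104
import Cfsg.Agent.Lib.H25.ONOut.SwE105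
import Cfsg.Agent.Lib.H25.ONOut.SwE106
import Cfsg.Agent.Lib.H25.ONOut.SwE107
import Cfsg.Agent.Lib.H25.ONOut.SwE108
import Cfsg.Agent.Lib.H25.ONOut.SwE109
import Cfsg.Agent.Lib.H25.ONOut.SwE110
import Cfsg.Agent.Lib.H25.ONOut.SwE111
import Cfsg.Agent.Lib.H25.ONOut.SwE112
import Cfsg.Agent.Lib.H25.ONOut.SwE113
import Cfsg.Agent.Lib.H25.ONOut.SwE114
import Cfsg.Agent.Lib.H25.ONOut.SwE115
import Cfsg.Agent.Lib.H25.ONOut.SwE116
import Cfsg.Agent.Lib.H25.ONOut.SwE117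
import Cfsg.Agent.Lib.H25.ONOut.SwE118
import Cfsg.Agent.Lib.H25.ONOut.SwE119
import Cfsg.Agent.Lib.H25.ONOut.SwE120
import Cfsg.Agent.Lib.H25.ONOut.SwE121
import Cfsg.Agent.Lib.H25.ONOut.SwE122
import Cfsg.Agent.Lib.H25.ONOut.SwE123
import Cfsg.Agent.Lib.H25.ONOut.SwE124
import Cfsg.Agent.Lib.H25.ONOut.SwE125
import Cfsg.Agent.Lib.H25.ONOut.SwE126
import Cfsg.Agent.Lib.H25.ONOut.SwE127
import Cfsg.Agent.Lib.H25.ONOut.SwE128
import Cfsg.Agent.Lib.H25.ONOut.SwE129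
import Cfsg.Agent.Lib.H25.ONOut.SwE130
import Cfsg.Agent.Lib.H25.ONOut.SwE131
import Cfsg.Agent.Lib.H25.ONOut.SwE132
import Cfsg.Agent.Lib.H25.ONOut.SwE133
import Cfsg.Agent.Lib.H25.ONOut.SwE134
import Cfsg.Agent.Lib.H25.ONOut.SwE135
import Cfsg.Agent.Lib.H25.ONOut.SwE136
import Cfsg.Agent.Lib.H25.ONOut.SwE137
import Cfsg.Agent.Lib.H25.ONOut.SwE138
import Cfsg.Agent.Lib.H25.ONOut.SwE139
import Cfsg.Agent.Lib.H25.ONOut.SwE140
import Cfsg.Agent.Lib.H25.ONOut.SwE141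
import Cfsg.Agent.Lib.H25.ONOut.SwE142
import Cfsg.Agent.Lib.H25.ONOut.SwE143
import Cfsg.Agent.Lib.H25.ONOut.SwE144
import Cfsg.Agent.Lib.H25.ONOut.SwE145
import Cfsg.Agent.Lib.H25.ONOut.SwE146
import Cfsg.Agent.Lib.H25.ONOut.SwE147
import Cfsg.Agent.Lib.H25.ONOut.SwE148
import Cfsg.Agent.Lib.H25.ONOut.SwE149
import Cfsg.Agent.Lib.H25.ONOut.SwE150
import Cfsg.Agent.Lib.H25.ONOut.SwE151
import Cfsg.Agent.Lib.H25.ONOut.SwE152
import Cfsg.Agent.Lib.H25.ONOut.SwE153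
import Cfsg.Agent.Lib.H25.ONOut.SwE154
import Cfsg.Agent.Lib.H25.ONOut.SwE155
import Cfsg.Agent.Lib.H25.ONOut.SwE156
import Cfsg.Agent.Lib.H25.ONOut.SwE157
import Cfsg.Agent.Lib.H25.ONOut.SwE158
import Cfsg.Agent.Lib.H25.ONOut.SwE159
import Cfsg.Agent.Lib.H25.ONOut.SwE160
import Cfsg.Agent.Lib.H25.ONOut.SwE161
import Cfsg.Agent.Lib.H25.ONOut.SwE162
import Cfsg.Agent.Lib.H25.ONOut.SwE163
import Cfsg.Agent.Lib.H25.ONOut.SwE164
import Cfsg.Agent.Lib.H25.ONOut.SwE165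
import Cfsg.Agent.Lib.H25.ONOut.SwE166
import Cfsg.Agent.Lib.H25.ONOut.SwE167
import Cfsg.Agent.Lib.H25.ONOut.SwE168
import Cfsg.Agent.Lib.H25.ONOut.SwE169
import Cfsg.Agent.Lib.H25.ONOut.SwE170
import Cfsg.Agent.Lib.H25.ONOut.SwE171
import Cfsg.Agent.Lib.H25.ONOut.SwE172
import Cfsg.Agent.Lib.H25.ONOut.SwE173
import Cfsg.Agent.Lib.H25.ONOut.SwE174
import Cfsg.Agent.Lib.H25.ONOut.SwE175
import Cfsg.Agent.Lib.H25.ONOut.SwE176
import Cfsg.Agent.Lib.H25.ONOut.SwE177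
import Cfsg.Agent.Lib.H25.ONOut.SwE178
import Cfsg.Agent.Lib.H25.ONOut.SwE179

set_option autoImplicit false
set_option maxRecDepth 100000

/-! # The checks over all points (generated) -/

namespace Cfsg.Agent.Lib.H25.ONOut

open Cfsg.Agent.Lib.H17.CosetCert Cfsg.Agent.Lib.H17.PermActs Cfsg.Agent.Lib.H25.ActSift

theorem swS_all : ∀ p < 122760, FS p = true := by
  have h : ∀ k < 90, sweep FS (k * 1364) 1364 = true := by
    intro k hk
    interval_cases k
    · exact swS_0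
    · exact swS_1
    · exact swS_2
    · exact swS_3
    · exact swS_4
    · exact swS_5
    · exact swS_6
    · exact swS_7
    · exact swS_8
    · exact swS_9
    · exact swS_10
    · exact swS_11
    · exact swS_12
    · exact swS_13
    · exact swS_14
    · exact swS_15
    · exact swS_16
    · exact swS_17
    · exact swS_18
    · exact swS_19
    · exact swS_20
    · exact swS_21
    · exact swS_22
    · exact swS_23
    · exact swS_24
    · exact swS_25
    · exact swS_26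
    · exact swS_27
    · exact swS_28
    · exact swS_29
    · exact swS_30
    · exact swS_31
    · exact swS_32
    · exact swS_33
    · exact swS_34
    · exact swS_35
    · exact swS_36
    · exact swS_37
    · exact swS_38
    · exact swS_39
    · exact swS_40
    · exact swS_41
    · exact swS_42
    · exact swS_43
    · exact swS_44
    · exact swS_45
    · exact swS_46
    · exact swS_47
    · exact swS_48
    · exact swS_49
    · exact swS_50
    · exact swS_51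
    · exact swS_52
    · exact swS_53
    · exact swS_54
    · exact swS_55
    · exact swS_56
    · exact swS_57
    · exact swS_58
    · exact swS_59
    · exact swS_60
    · exact swS_61
    · exact swS_62
    · exact swS_63
    · exact swS_64
    · exact swS_65
    · exact swS_66
    · exact swS_67
    · exact swS_68
    · exact swS_69
    · exact swS_70
    · exact swS_71
    · exact swS_72
    · exact swS_73
    · exact swS_74
    · exact swS_75
    · exact swS_76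
    · exact swS_77
    · exact swS_78
    · exact swS_79
    · exact swS_80
    · exact swS_81
    · exact swS_82
    · exact swS_83
    · exact swS_84
    · exact swS_85
    · exact swS_86
    · exact swS_87
    · exact swS_88
    · exact swS_89
  intro p hp
  exact sweep_all FS 1364 90 (by norm_num) h p (by omega)

theorem swN_all : ∀ p < 122760, FN p = true := by
  have h : ∀ k < 90, sweep FN (k * 1364) 1364 = true := by
    intro k hk
    interval_cases k
    · exact swN_0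
    · exact swN_1
    · exact swN_2
    · exact swN_3
    · exact swN_4
    · exact swN_5
    · exact swN_6
    · exact swN_7
    · exact swN_8
    · exact swN_9
    · exact swN_10
    · exact swN_11
    · exact swN_12
    · exact swN_13
    · exact swN_14
    · exact swN_15
    · exact swN_16
    · exact swN_17
    · exact swN_18
    · exact swN_19
    · exact swN_20
    · exact swN_21
    · exact swN_22
    · exact swN_23
    · exact swN_24
    · exact swN_25
    · exact swN_26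
    · exact swN_27
    · exact swN_28
    · exact swN_29
    · exact swN_30
    · exact swN_31
    · exact swN_32
    · exact swN_33
    · exact swN_34
    · exact swN_35
    · exact swN_36
    · exact swN_37
    · exact swN_38
    · exact swN_39
    · exact swN_40
    · exact swN_41
    · exact swN_42
    · exact swN_43
    · exact swN_44
    · exact swN_45
    · exact swN_46
    · exact swN_47
    · exact swN_48
    · exact swN_49
    · exact swN_50
    · exact swN_51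
    · exact swN_52
    · exact swN_53
    · exact swN_54
    · exact swN_55
    · exact swN_56
    · exact swN_57
    · exact swN_58
    · exact swN_59
    · exact swN_60
    · exact swN_61
    · exact swN_62
    · exact swN_63
    · exact swN_64
    · exact swN_65
    · exact swN_66
    · exact swN_67
    · exact swN_68
    · exact swN_69
    · exact swN_70
    · exact swN_71
    · exact swN_72
    · exact swN_73
    · exact swN_74
    · exact swN_75
    · exact swN_76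
    · exact swN_77
    · exact swN_78
    · exact swN_79
    · exact swN_80
    · exact swN_81
    · exact swN_82
    · exact swN_83
    · exact swN_84
    · exact swN_85
    · exact swN_86
    · exact swN_87
    · exact swN_88
    · exact swN_89
  intro p hp
  exact sweep_all FN 1364 90 (by norm_num) h p (by omega)

theorem swE_all : ∀ p < 122760, FE p = true := by
  have h : ∀ k < 180, sweep FE (k * 682) 682 = true := by
    intro k hk
    interval_cases k
    · exact swE_0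
    · exact swE_1
    · exact swE_2
    · exact swE_3
    · exact swE_4
    · exact swE_5
    · exact swE_6
    · exact swE_7
    · exact swE_8
    · exact swE_9
    · exact swE_10
    · exact swE_11
    · exact swE_12
    · exact swE_13
    · exact swE_14
    · exact swE_15
    · exact swE_16
    · exact swE_17
    · exact swE_18
    · exact swE_19
    · exact swE_20
    · exact swE_21
    · exact swE_22
    · exact swE_23
    · exact swE_24
    · exact swE_25
    · exact swE_26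
    · exact swE_27
    · exact swE_28
    · exact swE_29
    · exact swE_30
    · exact swE_31
    · exact swE_32
    · exact swE_33
    · exact swE_34
    · exact swE_35
    · exact swE_36
    · exact swE_37
    · exact swE_38
    · exact swE_39
    · exact swE_40
    · exact swE_41
    · exact swE_42
    · exact swE_43
    · exact swE_44
    · exact swE_45
    · exact swE_46
    · exact swE_47
    · exact swE_48
    · exact swE_49
    · exact swE_50
    · exact swE_51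
    · exact swE_52
    · exact swE_53
    · exact swE_54
    · exact swE_55
    · exact swE_56
    · exact swE_57
    · exact swE_58
    · exact swE_59
    · exact swE_60
    · exact swE_61
    · exact swE_62
    · exact swE_63
    · exact swE_64
    · exact swE_65
    · exact swE_66
    · exact swE_67
    · exact swE_68
    · exact swE_69
    · exact swE_70
    · exact swE_71
    · exact swE_72
    · exact swE_73
    · exact swE_74
    · exact swE_75
    · exact swE_76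
    · exact swE_77
    · exact swE_78
    · exact swE_79
    · exact swE_80
    · exact swE_81
    · exact swE_82
    · exact swE_83
    · exact swE_84
    · exact swE_85
    · exact swE_86
    · exact swE_87
    · exact swE_88
    · exact swE_89
    · exact swE_90
    · exact swE_91
    · exact swE_92
    · exact swE_93
    · exact swE_94
    · exact swE_95
    · exact swE_96
    · exact swE_97
    · exact swE_98
    · exact swE_99
    · exact swE_100
    · exact swE_101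
    · exact swE_102
    · exact swE_103
    · exact swE_104
    · exact swE_105
    · exact swE_106
    · exact swE_107
    · exact swE_108
    · exact swE_109
    · exact swE_110
    · exact swE_111
    · exact swE_112
    · exact swE_113
    · exact swE_114
    · exact swE_115
    · exact swE_116
    · exact swE_117
    · exact swE_118
    · exact swE_119
    · exact swE_120
    · exact swE_121
    · exact swE_122
    · exact swE_123
    · exact swE_124
    · exact swE_125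
    · exact swE_126
    · exact swE_127
    · exact swE_128
    · exact swE_129
    · exact swE_130
    · exact swE_131
    · exact swE_132
    · exact swE_133
    · exact swE_134
    · exact swE_135
    · exact swE_136
    · exact swE_137
    · exact swE_138
    · exact swE_139
    · exact swE_140
    · exact swE_141
    · exact swE_142
    · exact swE_143
    · exact swE_144
    · exact swE_145
    · exact swE_146
    · exact swE_147
    · exact swE_148
    · exact swE_149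
    · exact swE_150
    · exact swE_151
    · exact swE_152
    · exact swE_153
    · exact swE_154
    · exact swE_155
    · exact swE_156
    · exact swE_157
    · exact swE_158
    · exact swE_159
    · exact swE_160
    · exact swE_161
    · exact swE_162
    · exact swE_163
    · exact swE_164
    · exact swE_165
    · exact swE_166
    · exact swE_167
    · exact swE_168
    · exact swE_169
    · exact swE_170
    · exact swE_171
    · exact swE_172
    · exact swE_173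
    · exact swE_174
    · exact swE_175
    · exact swE_176
    · exact swE_177
    · exact swE_178
    · exact swE_179
  intro p hp
  exact sweep_all FE 682 180 (by norm_num) h p (by omega)

end Cfsg.Agent.Lib.H25.ONOut
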