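import Cfsg.Agent.Lib.H25.ONOut.MainB
import Cfsg.Agent.Lib.H25.ONOut.Sweeps

set_option autoImplicit false
set_option maxRecDepth 100000

/-! # The O'Nan group: `s` generates its own centraliser and is not conjugate to its third power -/

namespace Cfsg.Agent.Lib.H25.ONOut

open Cfsg.Agent.Lib.H17.CosetCert Cfsg.Agent.Lib.H17.Sgs Cfsg.Agent.Lib.H17.PermActs
  Cfsg.Agent.Lib.H6.PermTab Cfsg.Agent.Lib.H6.ONGlue Cfsg.Agent.Lib.H6.ONIndex
  Cfsg.Agent.Lib.H6.ONSimple Cfsg.Agent.Lib.H25.ActSift Cfsg.Agent.Lib.H17.ConjTest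
  Cfsg.Agent.Lib.H17.OutTools Cfsg.Agent.Lib.H17.OutRigid
open Cfsg.Agent.Lib.H17.Sift (pt pt_mul pt_one pt_lt pt_of_lt)

/-! ## The centraliser of `s`, and `s` is not conjugate to its third power -/

theorem baseS_eq : chainS.map ALvl.b = orbl aS chainS.length 0 := by decide +kernel

theorem orbS_eq : orbS = orbl aS 31 0 := by decide +kernel

theorem orblS_base : IsBase phi (orbl aS 4 0) :=
  isBase_mono (by decide +kernel) bsS_base

/-- the centraliser of `s` -/
theorem cent_s (x : G) (hx : x * sE = sE * x) : x ∈ Subgroup.zpowers sE := by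
  have h := aconj_cases hA chainS chainS_top.1 acts_sE acts_sE 0 (by decide) baseS_eq
    (memN orbS) swS_all x hx
  have hmem := memN_sound _ _ h
  rw [orbS_eq] at hmem
  obtain ⟨i, -, hi⟩ := mem_orbl aS 31 0 _ hmem
  have hxi : x = sE ^ i := by
    apply eq_of_comm_agree 4 0 (by decide) orblS_base acts_sE hx (pow_mul_comm' sE i)
    rw [hi, (acts_sE.pow i).pt 0 (by decide)]
  rw [hxi]
  exact Subgroup.pow_mem _ (Subgroup.mem_zpowers _) i

/-- `s` is not conjugate to its third power -/
theorem not_conj3 (g : G) (hg : g * sE = sE ^ 3 * g) : False := by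
  have h := aconj_cases hA chainS chainS_top.1 acts_sE acts_s3 0 (by decide) baseS_eq
    (fun _ => false) swN_all g hg
  exact absurd h (by simp)

end Cfsg.Agent.Lib.H25.ONOut
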