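import Cfsg.Agent.Lib.H25.ONOut.MainC

set_option autoImplicit false
set_option maxRecDepth 100000

/-! # The O'Nan group: the centraliser of `e` has 180 elements, words in `d` and `t` -/

namespace Cfsg.Agent.Lib.H25.ONOut

open Cfsg.Agent.Lib.H17.CosetCert Cfsg.Agent.Lib.H17.Sgs Cfsg.Agent.Lib.H17.PermActs
  Cfsg.Agent.Lib.H6.PermTab Cfsg.Agent.Lib.H6.ONGlue Cfsg.Agent.Lib.H6.ONIndex
  Cfsg.Agent.Lib.H6.ONSimple Cfsg.Agent.Lib.H25.ActSift Cfsg.Agent.Lib.H17.ConjTest
  Cfsg.Agent.Lib.H17.OutTools Cfsg.Agent.Lib.H17.OutRigid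
open Cfsg.Agent.Lib.H17.Sift (pt pt_mul pt_one pt_lt pt_of_lt)

/-! ## The centraliser of `e` -/

/-- generators of the centraliser of `e` -/
noncomputable def vals : List G := [dE, tE]

theorem hvals : List.Forall₂ (fun x A => Acts phi x A) vals As :=
  List.Forall₂.cons acts_dE (List.Forall₂.cons acts_tE List.Forall₂.nil)

theorem baseE_eq : chainE.map ALvl.b = orbl aE chainE.length 0 := by decide +kernel

theorem orblE_base : IsBase phi (orbl aE 3 0) :=
  isBase_mono (by decide +kernel) bsE_base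

theorem candE_eq : candE = CW.map fun w => evalF As w 0 := by decide +kernel

theorem comm_vals : ∀ v ∈ vals, v * eE = eE * v := by
  intro v hv
  simp only [vals, List.mem_cons, List.not_mem_nil, or_false] at hv
  rcases hv with rfl | rfl
  · exact (pow_mul_comm' dE 3).symm
  · exact eq_of_acts bsS_base bsS_lt (acts_mulF acts_tE acts_eE) (acts_mulF acts_eE acts_tE)
      (by decide +kernel)

/-- the centraliser of `e` -/
theorem cent_e (g : G) (hg : g * eE = eE * g) : ∃ w ∈ CW, g = evalW vals w := by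
  have h := aconj_cases hA chainE chainE_top.1 acts_eE acts_eE 0 (by decide) baseE_eq
    (memN candE) swE_all g hg
  have hmem := memN_sound _ _ h
  rw [candE_eq] at hmem
  obtain ⟨w, hw, hwe⟩ := List.mem_map.mp hmem
  refine ⟨w, hw, ?_⟩
  apply eq_of_comm_agree 3 0 (by decide) orblE_base acts_eE hg (comm_evalW vals eE comm_vals w)
  rw [← hwe, (acts_evalF hvals w).pt 0 (by decide)]

end Cfsg.Agent.Lib.H25.ONOut
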