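import Cfsg.Agent.Lib.H25.ONOut.Defs

set_option autoImplicit false
set_option maxRecDepth 100000

/-! # Data for the outer automorphisms of the O'Nan group (generated) -/

namespace Cfsg.Agent.Lib.H25.ONOut

/-- words in `s`, `d`, `t` and their inverses (numbers 0 to 5) for the generators `g`, `g⁻¹`, `a`, …, `f` -/
def WL : ℕ → List ℕ
  | 0 => [1, 0, 1, 2, 3, 5, 5, 4, 5, 0, 0, 1, 2, 0, 5, 1, 3, 2, 1]
  | 1 => [4, 5, 0, 4, 2, 3, 5, 4, 3, 3, 2, 1, 2, 2, 0, 5, 4, 3, 4]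
  | 2 => [3, 3, 4, 0, 5, 1, 5, 0, 2, 4, 3, 2, 4, 3, 5, 5, 3, 1, 0]
  | 3 => [5, 0, 5, 1, 2, 3, 5, 1, 3, 3, 2, 0, 1, 2, 0, 4, 4, 4]
  | 4 => [3, 5, 3, 2, 2, 0, 1, 2, 1, 3, 4, 5, 0, 0, 0, 5, 3, 2, 1]
  | 5 => [3, 4, 5, 4, 0, 0, 5, 0, 4, 2, 4, 2, 0, 5, 0, 4, 3, 5]
  | 6 => [4, 5, 1, 3, 3, 5, 1, 0, 1, 0, 1, 5, 3, 2, 4, 0, 4]
  | 7 => [3, 1, 0, 2, 3, 4, 3, 2, 1, 1, 3, 5, 0, 0, 5, 1, 5, 0]
  | _ => []

/-- the word in `d`, `t` of the image of `t` under the outer automorphism -/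
def wTp : List ℕ := [0, 1, 0, 1, 1, 0]

/-- the word in the inverses of `d`, `t` of the inverse of that image -/
def wTpi : List ℕ := [0, 1, 1, 0, 1, 0]

/-- words of relations between `s`, `d`, `t` -/
def rU : ℕ → List ℕ
  | 0 => [2]
  | 1 => [0, 2]
  | 2 => [1, 2, 2]
  | 3 => [0, 1, 2, 1]
  | _ => [0, 2, 1, 1]

/-- the exponents of the relations -/
def rM : ℕ → ℕ
  | 0 => 20
  | 1 => 16
  | 2 => 10
  | 3 => 8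
  | _ => 11

/-- the witnesses for the exponent 1 -/
def WT1 : List (ℕ × ℕ) :=
  [(1, 0), (0, 0), (9, 0), (3, 0), (3, 0), (3, 0), (3, 0), (3, 0), (3, 0), (3, 0), (3, 0), (3, 0),
    (3, 0), (3, 0), (3, 0), (3, 0), (3, 0), (3, 0), (3, 0), (3, 0), (3, 0), (3, 0), (3, 0), (3, 0),
    (3, 0), (3, 0), (3, 0), (3, 0), (3, 0), (3, 0), (3, 0), (3, 0), (3, 0), (3, 0), (1, 0), (3, 0),
    (3, 0), (3, 0), (3, 0), (3, 0), (3, 0), (3, 0), (3, 0), (3, 0), (3, 0), (3, 0), (4, 0), (3, 0),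
    (3, 0), (3, 0), (4, 0), (3, 0), (3, 0), (3, 0), (3, 0), (3, 0), (3, 0), (3, 0), (3, 0), (3, 0),
    (3, 0), (3, 0), (3, 0), (3, 0), (3, 0), (3, 0), (3, 0), (3, 0), (3, 0), (3, 0), (3, 0), (3, 0),
    (3, 0), (4, 0), (3, 0), (4, 0), (3, 0), (3, 0), (3, 0), (3, 0), (3, 0), (3, 0), (3, 0), (3, 0),
    (3, 0), (3, 0), (3, 0), (3, 0), (3, 0), (3, 0), (3, 0), (3, 0), (3, 0), (3, 0), (3, 0), (3, 0),
    (3, 0), (3, 0), (3, 0), (3, 0), (3, 0), (3, 0), (3, 0), (3, 0), (3, 0), (3, 0), (3, 0), (3, 0),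
    (3, 0), (3, 0), (3, 0), (3, 0), (3, 0), (3, 0), (3, 0), (3, 0), (3, 0), (3, 0), (3, 0), (3, 0),
    (3, 0), (3, 0), (3, 0), (3, 0), (3, 0), (3, 0), (3, 0), (3, 0), (3, 0), (3, 0), (3, 0), (3, 0),
    (3, 0), (4, 0), (3, 0), (3, 0), (3, 0), (3, 0), (3, 0), (3, 0), (3, 0), (3, 0), (3, 0), (3, 0),
    (4, 0), (3, 0), (3, 0), (3, 0), (3, 0), (3, 0), (3, 0), (3, 0), (3, 0), (3, 0), (3, 0), (3, 0),
    (3, 0), (3, 0), (3, 0), (3, 0), (3, 0), (3, 0), (3, 0), (3, 0), (3, 0), (3, 0), (3, 0), (3, 0),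
    (3, 0), (3, 0), (3, 0), (3, 0), (3, 0), (3, 0), (3, 0), (3, 0), (3, 0), (3, 0), (3, 0), (3,
    0)]

/-- the witnesses for the exponent 3 -/
def WT3 : List (ℕ × ℕ) :=
  [(2, 0), (0, 0), (1, 0), (3, 0), (3, 0), (3, 0), (3, 0), (3, 0), (3, 0), (3, 0), (3, 0), (3, 0),
    (3, 0), (3, 0), (3, 0), (3, 0), (3, 0), (3, 0), (3, 0), (3, 0), (3, 0), (3, 0), (3, 0), (3, 0),
    (3, 0), (3, 0), (3, 0), (3, 1), (3, 0), (3, 0), (3, 0), (3, 0), (3, 0), (3, 0), (3, 0), (3, 0),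
    (3, 0), (1, 0), (3, 0), (3, 0), (3, 0), (3, 0), (3, 0), (3, 0), (3, 0), (3, 0), (3, 0), (3, 0),
    (3, 0), (3, 0), (3, 0), (3, 0), (3, 0), (3, 0), (4, 0), (3, 0), (3, 0), (3, 0), (3, 0), (3, 0),
    (3, 0), (3, 0), (3, 0), (3, 0), (3, 0), (3, 0), (3, 0), (3, 0), (3, 0), (3, 0), (3, 0), (3, 0),
    (3, 0), (3, 0), (3, 0), (3, 0), (9, 0), (3, 0), (3, 0), (4, 0), (3, 0), (3, 0), (3, 0), (3, 0),
    (3, 0), (3, 0), (3, 0), (3, 0), (3, 0), (3, 0), (3, 0), (3, 0), (3, 0), (3, 0), (3, 0), (3, 0),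
    (3, 0), (3, 0), (3, 0), (3, 0), (3, 0), (3, 0), (3, 0), (3, 0), (3, 0), (3, 0), (3, 0), (3, 0),
    (3, 0), (3, 0), (3, 0), (3, 0), (3, 0), (3, 0), (3, 0), (3, 0), (3, 0), (3, 0), (3, 0), (3, 0),
    (3, 0), (3, 0), (3, 0), (3, 0), (3, 0), (3, 0), (3, 0), (3, 0), (3, 0), (3, 0), (3, 0), (3, 0),
    (3, 0), (3, 0), (3, 0), (3, 0), (3, 0), (4, 0), (3, 0), (3, 0), (4, 0), (3, 0), (3, 0), (3, 0),
    (3, 0), (3, 0), (3, 0), (3, 0), (3, 0), (3, 0), (3, 0), (3, 0), (3, 0), (3, 0), (3, 0), (3, 0),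
    (3, 0), (3, 0), (3, 0), (3, 0), (3, 0), (3, 0), (3, 0), (3, 0), (3, 0), (3, 0), (3, 0), (4, 0),
    (3, 0), (3, 0), (3, 0), (3, 0), (3, 0), (3, 0), (3, 0), (3, 0), (3, 0), (4, 0), (3, 0), (3,
    0)]

end Cfsg.Agent.Lib.H25.ONOut
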