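import Cfsg.Agent.Lib.H25.ONOut.MainD
import Cfsg.Agent.Lib.H25.ONOut.ThW0
import Cfsg.Agent.Lib.H25.ONOut.ThW1
import Cfsg.Agent.Lib.H25.ONOut.ThW2
import Cfsg.Agent.Lib.H25.ONOut.ThW3
import Cfsg.Agent.Lib.H25.ONOut.ThW4
import Cfsg.Agent.Lib.H25.ONOut.ThW5
import Cfsg.Agent.Lib.H25.ONOut.ThW6

set_option autoImplicit false
set_option maxRecDepth 100000

/-! # The O'Nan group: generation by `s`, `d`, `t`, and the images of the letters under the outer
automorphism -/

namespace Cfsg.Agent.Lib.H25.ONOut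

open Cfsg.Agent.Lib.H17.CosetCert Cfsg.Agent.Lib.H17.Sgs Cfsg.Agent.Lib.H17.PermActs
  Cfsg.Agent.Lib.H6.PermTab Cfsg.Agent.Lib.H6.ONGlue Cfsg.Agent.Lib.H6.ONIndex
  Cfsg.Agent.Lib.H6.ONSimple Cfsg.Agent.Lib.H25.ActSift Cfsg.Agent.Lib.H17.ConjTest
  Cfsg.Agent.Lib.H17.OutTools Cfsg.Agent.Lib.H17.OutRigid
open Cfsg.Agent.Lib.H17.Sift (pt pt_mul pt_one pt_lt pt_of_lt)

/-! ## Generation by `s`, `d`, `t` -/

/-- `s`, `d`, `t` and their inverses -/
noncomputable def vals6 : List G := [sE, dE, tE, sE⁻¹, dE⁻¹, tE⁻¹]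

theorem hvals6 : List.Forall₂ (fun x A => Acts phi x A) vals6 As6 :=
  List.Forall₂.cons acts_sE (List.Forall₂.cons acts_dE (List.Forall₂.cons acts_tE
    (List.Forall₂.cons acts_sEi (List.Forall₂.cons acts_dEi (List.Forall₂.cons acts_tEi
      List.Forall₂.nil)))))

/-- the table of a letter -/
def tabOf : ℕ → ℕ
  | 0 => tb1
  | 1 => tb0
  | 2 => tb2
  | 3 => tb3
  | 4 => tb4
  | 5 => tb5
  | 6 => tb6
  | _ => tb7

theorem acts_e : ∀ x < 8, Acts phi (e x) (A (tabOf x)) := by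
  intro x hx
  interval_cases x
  · rw [← el_tb1]; exact hA tb1 (by unfold letters; simp)
  · rw [← el_tb0]; exact hA tb0 (by unfold letters; simp)
  · rw [← el_tb2]; exact hA tb2 (by unfold letters; simp)
  · rw [← el_tb3]; exact hA tb3 (by unfold letters; simp)
  · rw [← el_tb4]; exact hA tb4 (by unfold letters; simp)
  · rw [← el_tb5]; exact hA tb5 (by unfold letters; simp)
  · rw [← el_tb6]; exact hA tb6 (by unfold letters; simp)
  · rw [← el_tb7]; exact hA tb7 (by unfold letters; simp)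

/-- the generators as words in `s`, `d`, `t` -/
theorem gen_eq : ∀ x < 8, e x = evalW vals6 (WL x) := by
  intro x hx
  apply eq_of_acts bsS_base bsS_lt (acts_e x hx) (acts_evalF hvals6 (WL x))
  interval_cases x <;> decide +kernel

theorem hgen : ∀ ψ : MulAut G, ψ sE = sE → ψ dE = dE → ψ tE = tE → ψ = 1 := by
  intro ψ h1 h2 h3
  have hfix : ∀ w, ψ (evalW vals6 w) = evalW vals6 w := by
    intro w
    rw [map_evalW_equiv]
    simp only [vals6, List.map_cons, List.map_nil, map_inv, h1, h2, h3]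
  apply aut_eq_one_of_closure _ closure_e
  rintro _ ⟨x, hx, rfl⟩
  rw [gen_eq x hx, hfix]

/-! ## The outer automorphism -/

/-- the image of `t` under the outer automorphism -/
noncomputable def tpE : G := evalW vals wTp

theorem acts_tpE : Acts phi tpE aTp := acts_evalF hvals wTp

theorem hvalsi : List.Forall₂ (fun x A => Acts phi x A) [dE⁻¹, tE⁻¹] [aDi, aTi] :=
  List.Forall₂.cons acts_dEi (List.Forall₂.cons acts_tEi List.Forall₂.nil)

theorem tpE_inv : tpE⁻¹ = evalW [dE⁻¹, tE⁻¹] wTpi := by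
  apply inv_eq_of_mul_eq_one_left
  exact eq_of_acts bsS_base bsS_lt (acts_mulF (acts_evalF hvalsi wTpi) acts_tpE) Acts.one
    (by decide +kernel)

theorem acts_tpEi : Acts phi tpE⁻¹ aTpi := by
  rw [tpE_inv]; exact acts_evalF hvalsi wTpi

theorem acts_s3i : Acts phi (sE ^ 3)⁻¹ aS3i := by
  rw [← inv_pow]; exact acts_iterF acts_sEi 3

/-- the images of `s`, `d`, `t` and their inverses -/
noncomputable def vals6θ : List G := [sE ^ 3, dE, tpE, (sE ^ 3)⁻¹, dE⁻¹, tpE⁻¹]

theorem hvals6θ : List.Forall₂ (fun x A => Acts phi x A) vals6θ As6θ :=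
  List.Forall₂.cons acts_s3 (List.Forall₂.cons acts_dE (List.Forall₂.cons acts_tpE
    (List.Forall₂.cons acts_s3i (List.Forall₂.cons acts_dEi (List.Forall₂.cons acts_tpEi
      List.Forall₂.nil)))))

/-- the images of the letters -/
noncomputable def θε (x : ℕ) : G := evalW vals6θ (WL x)

theorem acts_θε (x : ℕ) : Acts phi (θε x) (Fθ x) := acts_evalF hvals6θ (WL x)

theorem θε_chk : ∀ w ∈ baseW, ∀ b ∈ bsS, prodF Fθ w b = b := by
  intro w hw
  rw [baseW_parts] at hw
  simp only [List.mem_append] at hw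
  rcases hw with (((((hw | hw) | hw) | hw) | hw) | hw) | hw
  · exact thW_0 w hw
  · exact thW_1 w hw
  · exact thW_2 w hw
  · exact thW_3 w hw
  · exact thW_4 w hw
  · exact thW_5 w hw
  · exact thW_6 w hw

theorem θε_words : ∀ w ∈ baseW, (w.map θε).prod = 1 := fun w hw =>
  eq_of_acts bsS_base bsS_lt (acts_prodF θε Fθ acts_θε w) Acts.one (θε_chk w hw)

theorem θε_inv : θε 1 = (θε 0)⁻¹ := by
  symm
  apply inv_eq_of_mul_eq_one_left
  exact eq_of_acts bsS_base bsS_lt (acts_mulF (acts_θε 1) (acts_θε 0)) Acts.one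
    (by decide +kernel)

theorem letOK_θε : LetOK θε := by
  refine ⟨θε_inv, ?_⟩
  intro x h1 h2
  have h := θε_words [x, x] (by interval_cases x <;> decide)
  simpa using h

end Cfsg.Agent.Lib.H25.ONOut
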